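import Cfsg.Agent.Lib.Recognition.WeakJanko.Normal

/-!
Passing the weak closure to a centralizer containing it and to a quotient by a central involution.
-/

set_option autoImplicit false
set_option linter.style.haveILetI false

namespace CfsgLib.WeakJanko

variable {G : Type*} [Group G] [Finite G] {t : G} (h : Weak t) (F : Frame t)
include h

/-- The weak closure computed in a subgroup centralizing `w = t ^ ε x`, `x ∈ C(L)`, containing `L`. -/
theorem Weak.exists_sub (C : Subgroup G) (hLC : F.L ≤ C) :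
    ∃ (t' : C) (F' : Frame t'), (t' : G) = t ∧ Weak t' ∧ F'.L.map C.subtype ≤ F.L := by
  have htC : t ∈ C := hLC (F.wk_t_le_L h (self_mem_wk t))
  obtain ⟨t', ht'⟩ : ∃ t' : C, t' = ⟨t, htC⟩ := ⟨_, rfl⟩
  have hsub : ∀ s : C, (wk s).map C.subtype ≤ wk (s : G) := fun s => by
    rw [wk, MonoidHom.map_closure, Subgroup.closure_le]
    rintro _ ⟨x, ⟨g, rfl, hc⟩, rfl⟩
    exact mem_wk (isConj_iff.2 ⟨(g : G), rfl⟩) (congrArg Subtype.val hc)
  have hconj : ∀ u : G, IsConj t u → u ∈ F.L → ∃ g : C, (g : G) * t * (g : G)⁻¹ = u := fun u hu huL => by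
    obtain ⟨k, hk, e⟩ := h.conj_of_normalizer F hu (Subgroup.le_normalizer huL)
    exact ⟨⟨k, hLC hk⟩, e⟩
  have heq : (wk t').map C.subtype = wk t := by
    refine le_antisymm (by rw [ht']; exact hsub _) ((Subgroup.closure_le _).2 fun x ⟨g, hg, hxt⟩ => ?_)
    have hx : IsConj t x := isConj_iff.2 ⟨g, hg.symm⟩
    obtain ⟨k, hk⟩ := hconj x hx (F.wk_t_le_L h (mem_wk hx hxt))
    refine ⟨k * t' * k⁻¹, mem_wk (isConj_iff.2 ⟨k, rfl⟩) (Subtype.ext ?_), ?_⟩
    · show (k : G) * (t' : G) * (k : G)⁻¹ * (t' : G) = (t' : G) * ((k : G) * (t' : G) * (k : G)⁻¹)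
      rw [ht']
      show (k : G) * t * (k : G)⁻¹ * t = t * ((k : G) * t * (k : G)⁻¹)
      rw [hk, hxt]
    · show (k : G) * (t' : G) * (k : G)⁻¹ = x
      rw [ht']
      exact hk
  let e : wk t' ≃* wk t :=
    ((wk t').equivMapOfInjective C.subtype C.subtype_injective).trans (MulEquiv.subgroupCongr heq)
  have he : ∀ x, ((e x : wk t) : G) = ((x : C) : G) := fun x => rfl
  let F' : Frame t' :=
    { e := e.trans F.e
      e_self := by
        rw [← F.e_self]
        refine congrArg F.e (Subtype.ext ?_)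
        show ((t' : C) : G) = t
        rw [ht'] }
  have hel : ∀ a, (F'.el a : G) = F.el a := fun a => by
    show (((e.symm (F.e.symm a) : wk t') : C) : G) = ((F.e.symm a : wk t) : G)
    rw [← he, e.apply_symm_apply]
  refine ⟨t', F', by rw [ht'], ⟨?_, ⟨F'⟩, fun x hx hx2 hx1 => ?_⟩, ?_⟩
  · rw [← Subgroup.orderOf_coe, ht']
    exact h.ht
  · have hxw : (x : G) ∈ wk t := heq ▸ Subgroup.mem_map_of_mem C.subtype hx
    obtain ⟨g, hg⟩ := hconj _ (h.conj _ hxw (congrArg Subtype.val hx2)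
      (fun e1 => hx1 (Subtype.ext e1))) (F.wk_t_le_L h hxw)
    exact isConj_iff.2 ⟨g, Subtype.ext (by rw [ht']; exact hg)⟩
  · rw [Subgroup.map_le_iff_le_comap]
    refine iSup₂_le fun s hs x hx => ?_
    obtain ⟨a, ha, rfl⟩ := hs.1
    refine F.wk_le_L (F.el_mem_E ha) (fun e1 => hs.2 ?_) ?_
    · rw [F.el_injective (e1.trans (map_one F.el).symm), map_one]
    · have := hsub _ ⟨x, hx, rfl⟩
      rw [hel] at this
      exact this

/-- The weak closure modulo a central involution. -/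
theorem Weak.exists_quotient {w : G} (hw : w * w = 1) (hw1 : w ≠ 1) (hwc : ∀ g, g * w = w * g)
    (hdisj : F.L ⊓ Subgroup.centralizer (F.L : Set G) = ⊥) (N : Subgroup G) [N.Normal]
    (hN : N = Subgroup.zpowers w) :
    ∃ F' : Frame (t : G ⧸ N), Weak (t : G ⧸ N) ∧ F'.L ≤ F.L.map (QuotientGroup.mk' N) := by
  have hNmem : ∀ x ∈ N, x = 1 ∨ x = w := fun x hx => by
    rw [hN] at hx
    obtain ⟨n, rfl⟩ := hx
    rcases Int.even_or_odd n with ⟨k, rfl⟩ | ⟨k, rfl⟩
    · left
      show w ^ (k + k) = 1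
      rw [← two_mul, zpow_mul, zpow_two, hw, one_zpow]
    · right
      show w ^ (2 * k + 1) = w
      rw [zpow_add_one, zpow_mul, zpow_two, hw, one_zpow, one_mul]
  have hwL : w ∈ Subgroup.centralizer (F.L : Set G) :=
    Subgroup.mem_centralizer_iff.2 fun x _ => hwc x
  obtain ⟨π, hπ⟩ : ∃ π : G →* G ⧸ N, π = QuotientGroup.mk' N := ⟨_, rfl⟩
  -- commuting modulo the centre is commuting
  have hlift : ∀ s v : G, IsConj t s → s ∈ F.E → IsConj t v → π v * π s = π s * π v → v * s = s * v := by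
    intro s v hs hsE hv hc
    have hm : (s * v)⁻¹ * (v * s) ∈ N := by
      rw [← QuotientGroup.eq]
      rw [hπ] at hc
      exact hc.symm
    rcases hNmem _ hm with e | e
    · exact (inv_mul_eq_one.1 e).symm
    · exfalso
      have he : v * s * v⁻¹ = s * w := by
        rw [show v * s = s * v * w from inv_mul_eq_iff_eq_mul.1 e, mul_assoc (s * v), ← hwc v⁻¹,
          ← mul_assoc, mul_inv_cancel_right]
      obtain ⟨F₁, hF₁⟩ := h.exists_frame F hsE ((h.mul_self_conj hs).2)
      have hL : F₁.L = F.L := by simp [Frame.L, hF₁]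
      refine hw1 ((weak_conj h hs).eq_one_of_mul F₁ (hL ▸ hwL) ?_)
      exact isConj_iff.2 ⟨v, he⟩
  have hinj : ∀ x ∈ F.L, π x = 1 → x = 1 := fun x hx e => by
    rw [hπ] at e
    rcases hNmem x ((QuotientGroup.eq_one_iff x).1 e) with h1 | h1
    · exact h1
    · exfalso
      refine hw1 (Subgroup.mem_bot.1 (hdisj ▸ ?_))
      exact ⟨h1 ▸ hx, hwL⟩
  have hE : ∀ s ∈ F.E, s ≠ 1 → wk (π s) = (wk s).map π := by
    intro s hs hs1
    refine le_antisymm ((Subgroup.closure_le _).2 ?_) ?_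
    · rintro x ⟨g, rfl, hc⟩
      obtain ⟨g, rfl⟩ : ∃ g', π g' = g := by rw [hπ]; exact QuotientGroup.mk'_surjective N g
      have hsJ := h.isConj_E F hs hs1
      rw [← map_inv, ← map_mul, ← map_mul] at hc ⊢
      exact Subgroup.mem_map_of_mem π (mem_wk (isConj_iff.2 ⟨g, rfl⟩)
        (hlift s _ hsJ hs (hsJ.trans (isConj_iff.2 ⟨g, rfl⟩)) hc))
    · rw [wk, MonoidHom.map_closure, Subgroup.closure_le]
      rintro _ ⟨x, ⟨g, rfl, hc⟩, rfl⟩
      exact mem_wk (isConj_iff.2 ⟨π g, by simp⟩) (by rw [← map_mul, hc, map_mul])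
  have ht1 : t ≠ 1 := fun e => by
    have := h.ht
    rw [e, orderOf_one] at this
    omega
  have htw := hE t F.t_mem_E ht1
  have hpi : Function.Injective (π.comp (wk t).subtype) := by
    rw [injective_iff_map_eq_one]
    exact fun x hx => Subtype.ext (hinj _ (F.wk_t_le_L h x.2) hx)
  let e : wk (π t) ≃* wk t :=
    ((MulEquiv.subgroupCongr (show (π.comp (wk t).subtype).range = wk (π t) by
      rw [MonoidHom.range_comp, Subgroup.range_subtype, htw])).symm.trans
      (MonoidHom.ofInjective hpi).symm)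
  have he : ∀ x, π ((e x : wk t) : G) = (x : G ⧸ N) := fun x => by
    show ((MonoidHom.ofInjective hpi ((MonoidHom.ofInjective hpi).symm _)) : G ⧸ N) = _
    rw [MulEquiv.apply_symm_apply]
    rfl
  let F' : Frame (π t) :=
    { e := e.trans F.e
      e_self := by
        rw [← F.e_self]
        refine congrArg F.e (hpi ?_)
        exact he _ }
  have hel : ∀ a, F'.el a = π (F.el a) := fun a => by
    show ((e.symm (F.e.symm a) : wk (π t)) : G ⧸ N) = π ((F.e.symm a : wk t) : G)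
    rw [← he, e.apply_symm_apply]
  have hmain : ∃ F' : Frame (π t), Weak (π t) ∧ F'.L ≤ F.L.map π := by
    refine ⟨F', ⟨?_, ⟨F'⟩, fun x hx hx2 hx1 => ?_⟩, ?_⟩
    · exact orderOf_eq_prime (by rw [← map_pow, pow_two, mul_self_of_order_two h.ht, map_one])
        (fun e1 => ht1 (hinj t (F.wk_t_le_L h (self_mem_wk t)) e1))
    · obtain ⟨a, rfl⟩ := F'.exists_el hx
      have ha2 : a * a = 1 := F'.el_injective (by rw [map_mul, hx2, map_one])
      have ha1 : a ≠ 1 := fun e1 => hx1 (by rw [e1, map_one])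
      obtain ⟨g, hg⟩ := isConj_iff.1 (h.conj _ (F.el_mem a) (by rw [← map_mul, ha2, map_one])
        (F.el_ne_one ha1))
      exact isConj_iff.2 ⟨π g, by rw [hel, ← hg, map_mul, map_mul, map_inv]⟩
    · refine iSup₂_le fun s hs => ?_
      obtain ⟨a, ha, rfl⟩ := hs.1
      have ha1 : F.el a ≠ 1 := fun e1 => hs.2 (by rw [hel, e1, map_one])
      rw [hel, hE _ (F.el_mem_E ha) ha1]
      exact Subgroup.map_mono (F.wk_le_L (F.el_mem_E ha) ha1)
  subst hπ
  exact hmain

end CfsgLib.WeakJanko
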