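import Cfsg.Agent.Lib.Recognition.WeakJanko.Janko
import Cfsg.Agent.Lib.Recognition.WeakJanko.Cover
import Cfsg.Agent.Lib.Recog.JankoOneSpectrum
import Cfsg.Agent.Lib.Involutions.BrauerSuzuki
import Cfsg.Agent.Lib.StrongEmbedding.Swap
import Cfsg.Agent.Lib.Tech46.CoprimeGen
import Mathlib.GroupTheory.SpecificGroups.ZGroup

/-!
Recognition of the first Janko group from the weak closure of a central involution in its centralizer.
-/

set_option autoImplicit false
set_option linter.style.haveILetI false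
set_option maxRecDepth 100000

namespace CfsgLib.WeakJanko

open scoped commutatorElement

universe u

theorem not_allowed : ∀ n : ℕ, n ∈ ([77, 133, 209] : List ℕ) →
    n ∉ CfsgLib.Recog.JankoOneSpectrum.allowed := by
  decide

/-- A group of squarefree order whose order is divisible by `7`, `11` and `19` has an element of order
`77`, `133` or `209`. -/
theorem exists_order_of_squarefree {P : Type u} [Group P] [Finite P] (hsq : Squarefree (Nat.card P))
    (hdvd : 1463 ∣ Nat.card P) : ∃ x : P, orderOf x ∈ ([77, 133, 209] : List ℕ) := by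
  haveI := IsZGroup.of_squarefree hsq
  haveI : IsCyclic (commutator P) := IsZGroup.isCyclic_commutator P
  have hA : IsCyclic (P ⧸ commutator P) := IsZGroup.isCyclic_abelianization
  have hmul : (commutator P).index * Nat.card (commutator P) = Nat.card P :=
    Subgroup.index_mul_card _
  -- an element of each order dividing one of the two cyclic sections
  have key : ∀ m, m ∣ Nat.card (commutator P) ∨ m ∣ (commutator P).index → ∃ x : P, orderOf x = m := by
    rintro m (hm | hm)
    · obtain ⟨g, hg⟩ := IsCyclic.exists_ofOrder_eq_natCard (α := commutator P)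
      refine ⟨((g ^ (Nat.card (commutator P) / m) : commutator P) : P), ?_⟩
      rw [Subgroup.orderOf_coe, orderOf_pow_of_dvd ?_ ?_, hg, Nat.div_div_self hm Nat.card_pos.ne']
      · exact (Nat.div_pos (Nat.le_of_dvd Nat.card_pos hm) (Nat.pos_of_dvd_of_pos hm Nat.card_pos)).ne'
      · rw [hg]; exact Nat.div_dvd_of_dvd hm
    · haveI := hA
      obtain ⟨g, hg⟩ := IsCyclic.exists_ofOrder_eq_natCard (α := P ⧸ commutator P)
      obtain ⟨x, rfl⟩ := QuotientGroup.mk'_surjective (commutator P) g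
      have hd : m ∣ orderOf x := by
        refine hm.trans ?_
        rw [Subgroup.index_eq_card, ← hg]
        exact orderOf_map_dvd _ x
      refine ⟨x ^ (orderOf x / m), ?_⟩
      rw [orderOf_pow_of_dvd ?_ ?_, Nat.div_div_self hd (orderOf_pos x).ne']
      · exact (Nat.div_pos (Nat.le_of_dvd (orderOf_pos x) hd)
          (Nat.pos_of_dvd_of_pos hd (orderOf_pos x))).ne'
      · exact Nat.div_dvd_of_dvd hd
  have hp : ∀ p, p.Prime → p ∣ Nat.card P → p ∣ Nat.card (commutator P) ∨ p ∣ (commutator P).index := by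
    intro p hp hd
    rw [← hmul] at hd
    exact ((Nat.Prime.dvd_mul hp).1 hd).symm
  have h7 := hp 7 (by norm_num) ((by norm_num : 7 ∣ 1463).trans hdvd)
  have h11 := hp 11 (by norm_num) ((by norm_num : 11 ∣ 1463).trans hdvd)
  have h19 := hp 19 (by norm_num) ((by norm_num : 19 ∣ 1463).trans hdvd)
  have two : ∀ a b : ℕ, Nat.Coprime a b → ∀ n, a ∣ n → b ∣ n → a * b ∣ n :=
    fun a b h n ha hb => h.mul_dvd_of_dvd_of_dvd ha hb
  rcases h7 with a | a <;> rcases h11 with b | b <;> rcases h19 with c | c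
  case inl.inl.inl => obtain ⟨x, hx⟩ := key 77 (Or.inl (two 7 11 (by norm_num) _ a b)); exact ⟨x, by simp [hx]⟩
  case inl.inl.inr => obtain ⟨x, hx⟩ := key 77 (Or.inl (two 7 11 (by norm_num) _ a b)); exact ⟨x, by simp [hx]⟩
  case inr.inr.inl => obtain ⟨x, hx⟩ := key 77 (Or.inr (two 7 11 (by norm_num) _ a b)); exact ⟨x, by simp [hx]⟩
  case inr.inr.inr => obtain ⟨x, hx⟩ := key 77 (Or.inr (two 7 11 (by norm_num) _ a b)); exact ⟨x, by simp [hx]⟩
  case inl.inr.inl => obtain ⟨x, hx⟩ := key 133 (Or.inl (two 7 19 (by norm_num) _ a c)); exact ⟨x, by simp [hx]⟩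
  case inr.inl.inr => obtain ⟨x, hx⟩ := key 133 (Or.inr (two 7 19 (by norm_num) _ a c)); exact ⟨x, by simp [hx]⟩
  case inl.inr.inr => obtain ⟨x, hx⟩ := key 209 (Or.inr (two 11 19 (by norm_num) _ b c)); exact ⟨x, by simp [hx]⟩
  case inr.inl.inl => obtain ⟨x, hx⟩ := key 209 (Or.inl (two 11 19 (by norm_num) _ b c)); exact ⟨x, by simp [hx]⟩

variable {G : Type u} [Group G] [Finite G] {t : G} (h : Weak t) (F : Frame t)
include h

theorem Weak.t_mem_L : t ∈ F.L := F.wk_t_le_L h (self_mem_wk t)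

theorem Weak.L_le_normalizer : F.L ≤ Subgroup.normalizer (F.L : Set G) := Subgroup.le_normalizer

/-- The centralizer of an `L`-conjugate of `t` normalizes `L`. -/
theorem Weak.centralizer_conj_le {u g : G} (hu : IsConj t u)
    (hun : u ∈ Subgroup.normalizer (F.L : Set G)) (hg : g * u = u * g) :
    g ∈ Subgroup.normalizer (F.L : Set G) := by
  obtain ⟨l, hl, rfl⟩ := h.conj_of_normalizer F hu hun
  have ht1 : t ≠ 1 := fun e => by
    have := h.ht
    rw [e, orderOf_one] at this
    omega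
  have h1 := h.centralizer_le_normalizer F (g := l⁻¹ * g * l) F.t_mem_E ht1 (by
    rw [show l⁻¹ * g * l * t = l⁻¹ * (g * (l * t * l⁻¹)) * l by group, hg]
    group)
  have h2 := mul_mem (mul_mem (h.L_le_normalizer F hl) h1) (inv_mem (h.L_le_normalizer F hl))
  simpa [mul_assoc] using h2

/-- An element mapping `t` into the normalizer of `L` normalizes `L`. -/
theorem Weak.mem_normalizer_of_conj {g : G}
    (hg : g * t * g⁻¹ ∈ Subgroup.normalizer (F.L : Set G)) :
    g ∈ Subgroup.normalizer (F.L : Set G) := by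
  obtain ⟨l, hl, e⟩ := h.conj_of_normalizer F (isConj_iff.2 ⟨g, rfl⟩) hg
  have h1 : l⁻¹ * g ∈ Subgroup.normalizer (F.L : Set G) :=
    h.centralizer_conj_le F (IsConj.refl t) (h.L_le_normalizer F (h.t_mem_L F)) (by
      rw [show l⁻¹ * g * t = l⁻¹ * (g * t * g⁻¹) * g by group, ← e]; group)
  have h2 := mul_mem (h.L_le_normalizer F hl) h1
  rwa [mul_inv_cancel_left] at h2

/-- The weak closure has `Z₂ × Alt(5)` as the centralizer of `t` in `L`. -/
theorem Weak.class_card (hrec : RecogJ1.{u}) :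
    Nat.card F.L = 175560 ∧ Nat.card {x : G | ∃ l ∈ F.L, l * t * l⁻¹ = x} = 1463 := by
  obtain ⟨hJ, hdisj⟩ := h.isoJ1 F hrec
  have hL : Nat.card F.L = 175560 := by
    obtain ⟨e⟩ := hJ
    rw [Nat.card_congr e.toEquiv]
    exact CfsgLib.Sporadic.J1.card_J1
  refine ⟨hL, ?_⟩
  obtain ⟨τ, hτ⟩ : ∃ τ : F.L, τ = ⟨t, h.t_mem_L F⟩ := ⟨_, rfl⟩
  have hC : Subgroup.centralizer ({τ} : Set F.L) = (wk t).subgroupOf F.L := by
    ext x
    rw [Subgroup.mem_centralizer_singleton_iff, Subgroup.mem_subgroupOf, hτ, ← Subtype.coe_inj]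
    refine ⟨fun hx => ?_, fun hx => wk_comm hx⟩
    obtain ⟨w, hw, z, hz, e⟩ := h.decomp_L F x.2 hx
    have hz1 : z = 1 := Subgroup.mem_bot.1 (hdisj ▸ (⟨hz.2, hz.1⟩ :
      z ∈ F.L ⊓ Subgroup.centralizer (F.L : Set G)))
    rw [e, hz1, mul_one]
    exact hw
  have h1 := CfsgLib.Characters.card_isConj_mul_card_centralizer τ
  rw [hC, Nat.card_congr (Subgroup.subgroupOfEquivOfLe (F.wk_t_le_L h)).toEquiv, F.card_wk, hL] at h1
  have h2 : Nat.card {x : F.L // IsConj τ x} = Nat.card {x : G | ∃ l ∈ F.L, l * t * l⁻¹ = x} := by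
    refine Nat.card_congr ⟨fun x => ⟨(x.1 : G), ?_⟩, fun y => ⟨⟨y.1, ?_⟩, ?_⟩, fun x => rfl, fun y => rfl⟩
    · obtain ⟨l, hl⟩ := isConj_iff.1 x.2
      refine ⟨l, l.2, ?_⟩
      rw [← hl, hτ]; rfl
    · obtain ⟨l, hl, e⟩ := y.2
      rw [← e]
      exact mul_mem (mul_mem hl (h.t_mem_L F)) (inv_mem hl)
    · obtain ⟨l, hl, e⟩ := y.2
      exact isConj_iff.2 ⟨⟨l, hl⟩, Subtype.ext (by rw [hτ]; exact e)⟩
  omega

omit h in
theorem mem_all {G : Type u} [Group G] [Finite G] (hrec : RecogJ1.{u}) (n : ℕ) :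
    ∀ (t : G), Nat.card G = n → (∀ (H : Type u) [Group H] [Finite H] (s : H) (F : Frame s),
      Weak s → Nat.card H < n → ∀ v, IsConj s v → v ∈ F.L) →
      Weak t → ∀ F : Frame t, Subgroup.normalizer (F.L : Set G) = ⊤ := by
  classical
  intro t hn ih h F
  haveI : Fact (Nat.Prime 2) := ⟨Nat.prime_two⟩
  obtain ⟨hJ, hdisj⟩ := h.isoJ1 F hrec
  obtain ⟨hLcard, hKcard⟩ := h.class_card F hrec
  obtain ⟨M, hM⟩ : ∃ M, M = Subgroup.normalizer (F.L : Set G) := ⟨_, rfl⟩
  have hLM : F.L ≤ M := hM ▸ h.L_le_normalizer F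
  have hXM : Subgroup.centralizer (F.L : Set G) ≤ M := hM ▸ Subgroup.centralizer_le_normalizer _
  have htM : t ∈ M := hLM (h.t_mem_L F)
  rw [← hM]
  by_contra hMtop
  -- every involution of `L` is conjugate in `L` to `t`
  have hLinv : ∀ l ∈ F.L, l * l = 1 → l ≠ 1 → ∃ k ∈ F.L, k * t * k⁻¹ = l := by
    intro l hl hl2 hl1
    have hfac : (Nat.card F.L).factorization 2 = 3 := by
      rw [hLcard]
      have h1 := (Nat.Prime.pow_dvd_iff_le_factorization Nat.prime_two (by norm_num : (175560 : ℕ) ≠ 0)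
        (k := 3)).1 (by norm_num)
      have h2 : ¬ 4 ≤ (175560 : ℕ).factorization 2 := fun hh => by
        have := (Nat.Prime.pow_dvd_iff_le_factorization Nat.prime_two (by norm_num : (175560 : ℕ) ≠ 0)
          (k := 4)).2 hh
        norm_num at this
      omega
    let P : Sylow 2 F.L := Sylow.ofCard (F.E.subgroupOf F.L) (by
      rw [Nat.card_congr (Subgroup.subgroupOfEquivOfLe (F.E_le.trans (F.wk_t_le_L h))).toEquiv,
        F.card_E, hfac]; norm_num)
    obtain ⟨Q, hQ⟩ := (IsPGroup.of_card (p := 2) (n := 1) (G := Subgroup.zpowers (⟨l, hl⟩ : F.L))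
      (by rw [Nat.card_zpowers, pow_one, orderOf_eq_prime (Subtype.ext (by
        rw [SubmonoidClass.coe_pow, pow_two]; exact hl2))
        (fun e => hl1 (congrArg Subtype.val e))])).exists_le_sylow
    obtain ⟨g, hg⟩ := MulAction.exists_smul_eq F.L Q P
    have hmem : (g : G) * l * (g : G)⁻¹ ∈ F.E := by
      have : MulAut.conj g • (⟨l, hl⟩ : F.L) ∈ (P : Subgroup F.L) := by
        rw [← hg]
        exact Subgroup.smul_mem_pointwise_smul _ (MulAut.conj g) _ (hQ (Subgroup.mem_zpowers _))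
      exact this
    obtain ⟨k, hk, e⟩ := (h.split F).1 _ hmem (fun e1 => hl1 (conj_eq_one_iff.1 e1))
    refine ⟨(g : G)⁻¹ * k, mul_mem (inv_mem g.2) hk, ?_⟩
    rw [show (g : G)⁻¹ * k * t * ((g : G)⁻¹ * k)⁻¹ = (g : G)⁻¹ * (k * t * k⁻¹) * g by group, e]
    group
  -- centralizers of the involutions of `M` lie in `M`
  have hB : ∀ w ∈ M, w * w = 1 → w ≠ 1 → ∀ g, g * w = w * g → g ∈ M := by
    intro w hwM hw2 hw1 g hgw
    rw [hM] at hwM
    obtain ⟨l, hl, x, hx, rfl⟩ := h.normalizer_eq F hwM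
    have hlx : ∀ y ∈ F.L, y * x = x * y := fun y hy => Subgroup.mem_centralizer_iff.1 hx y hy
    have hl2 : l * l = 1 := by
      have hmem : l * l ∈ F.L ⊓ Subgroup.centralizer (F.L : Set G) := by
        refine Subgroup.mem_inf.2 ⟨mul_mem hl hl, ?_⟩
        have e : l * l = (x * x)⁻¹ := by
          refine eq_inv_of_mul_eq_one_left ?_
          rw [← hw2, mul_assoc l x, ← mul_assoc x l, ← hlx l hl]
          group
        rw [e]
        exact inv_mem (mul_mem hx hx)
      rwa [hdisj, Subgroup.mem_bot] at hmem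
    have hx2 : x * x = 1 := by
      rw [mul_assoc l x, ← mul_assoc x l, ← hlx l hl, mul_assoc l x, ← mul_assoc, hl2, one_mul] at hw2
      exact hw2
    by_cases hl1 : l = 1
    · -- an involution centralizing `L`
      subst hl1
      rw [one_mul] at hgw hw1
      obtain ⟨C, hC⟩ : ∃ C, C = Subgroup.centralizer ({x} : Set G) := ⟨_, rfl⟩
      have hmemC : ∀ y, y ∈ C ↔ y * x = x * y := fun y => by
        rw [hC, Subgroup.mem_centralizer_singleton_iff]
      by_cases hCtop : C = ⊤
      · exfalso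
        refine hMtop ((Subgroup.eq_top_iff' M).2 fun g => ?_)
        have hcen : ∀ y, y * x = x * y := fun y => (hmemC y).1 (hCtop ▸ Subgroup.mem_top y)
        obtain ⟨N, hN⟩ : ∃ N, N = Subgroup.zpowers x := ⟨_, rfl⟩
        haveI : N.Normal := ⟨fun y hy k => by
          rw [hN] at hy ⊢
          obtain ⟨i, rfl⟩ := hy
          refine ⟨i, ?_⟩
          show x ^ i = k * x ^ i * k⁻¹
          rw [((show Commute k x from hcen k).zpow_right i).eq, mul_inv_cancel_right]⟩
        obtain ⟨F', hW, hL'⟩ := h.exists_quotient F hx2 hw1 hcen hdisj N hN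
        have hlt : Nat.card (G ⧸ N) < n := by
          rw [← hn, ← Subgroup.index_eq_card, ← Subgroup.index_mul_card N, hN, Nat.card_zpowers,
            orderOf_eq_prime (by rw [pow_two, hx2]) hw1]
          have := Nat.pos_of_ne_zero (Subgroup.index_ne_zero_of_finite (H := Subgroup.zpowers x))
          omega
        have hm := hL' (ih (G ⧸ N) (t : G ⧸ N) F' hW hlt ((g * t * g⁻¹ : G) : G ⧸ N)
          (isConj_iff.2 ⟨(g : G ⧸ N), rfl⟩))
        obtain ⟨y, hy, hye⟩ := hm
        have hmem : y⁻¹ * (g * t * g⁻¹) ∈ N := QuotientGroup.eq.1 hye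
        rw [hM]
        refine h.mem_normalizer_of_conj F ?_
        rw [← hM, show g * t * g⁻¹ = y * (y⁻¹ * (g * t * g⁻¹)) by group]
        refine mul_mem (hLM hy) ?_
        rw [hN] at hmem
        exact Subgroup.zpowers_le.2 (hXM hx) hmem
      · have hLC : F.L ≤ C := fun y hy => (hmemC y).2 (hlx y hy)
        obtain ⟨t', F', ht', hW, hL'⟩ := h.exists_sub F C hLC
        have hlt : Nat.card C < n := by
          rw [← hn]
          exact lt_of_le_of_ne (Subgroup.card_le_card_group C)
            (fun e => hCtop (Subgroup.eq_top_of_card_eq C e))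
        have hgC : g ∈ C := (hmemC g).2 hgw
        obtain ⟨g', hg'⟩ : ∃ g' : C, g' = ⟨g, hgC⟩ := ⟨_, rfl⟩
        have hm := hL' (Subgroup.mem_map_of_mem C.subtype
          (ih C t' F' hW hlt (g' * t' * g'⁻¹) (isConj_iff.2 ⟨g', rfl⟩)))
        have hm' : g * t * g⁻¹ ∈ F.L := by
          rw [hg'] at hm
          simpa [ht'] using hm
        rw [hM]
        exact h.mem_normalizer_of_conj F (hM ▸ hLM hm')
    · -- an involution with a component in `L`
      obtain ⟨k, hk, hkl⟩ := hLinv l hl hl2 hl1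
      have hkx := hlx k hk
      have hw : l * x = k * (t * x) * k⁻¹ := by
        rw [← hkl, mul_assoc (k * t), ← mul_assoc k t x, mul_assoc (k * t) x,
          show k⁻¹ * x = x * k⁻¹ from hlx _ (inv_mem hk)]
      obtain ⟨C, hC⟩ : ∃ C, C = Subgroup.centralizer ({t * x} : Set G) := ⟨_, rfl⟩
      have hmemC : ∀ y, y ∈ C ↔ y * (t * x) = (t * x) * y := fun y => by
        rw [hC, Subgroup.mem_centralizer_singleton_iff]
      have htx : t * x = x * t := hlx t (h.t_mem_L F)
      have ht1 : t ≠ 1 := fun e => by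
        have := h.ht
        rw [e, orderOf_one] at this
        omega
      have htC : t ∈ C := (hmemC t).2 (by rw [mul_assoc t x t, ← htx, ← mul_assoc])
      obtain ⟨t', ht'⟩ : ∃ t' : C, t' = ⟨t, htC⟩ := ⟨_, rfl⟩
      have hiso : Cfsg.IsIsolatedInvolution t' := by
        refine ⟨by rw [← Subgroup.orderOf_coe, ht']; exact h.ht, fun c hc => ?_⟩
        obtain ⟨u, hu⟩ : ∃ u, u = (c : G) * t * (c : G)⁻¹ := ⟨_, rfl⟩
        have huc : t * u = u * t := by
          have := congrArg Subtype.val hc.eq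
          rw [ht'] at this
          simpa [hu] using this
        have huJ : IsConj t u := isConj_iff.2 ⟨(c : G), hu.symm⟩
        have huW : u ∈ wk t := mem_wk huJ huc.symm
        have huL := F.wk_t_le_L h huW
        have hu2 := (h.mul_self_conj huJ).1
        have hcx : (c : G) * x * (c : G)⁻¹ = u * t * x := by
          have e : u * ((c : G) * x * (c : G)⁻¹) = t * x := by
            rw [hu, show (c : G) * t * (c : G)⁻¹ * ((c : G) * x * (c : G)⁻¹) = (c : G) * (t * x) * (c : G)⁻¹ by group,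
              (hmemC _).1 c.2, mul_inv_cancel_right]
          conv_lhs => rw [← one_mul ((c : G) * x * (c : G)⁻¹), ← hu2, mul_assoc, e]
          rw [mul_assoc]
        obtain ⟨k₀, hk₀, hk₀u⟩ := h.conj_of_normalizer F huJ (h.L_le_normalizer F huL)
        have hwuL : wk u ≤ F.L := fun y hy => by
          have hy' : k₀⁻¹ * y * k₀ ∈ wk t := by
            rw [← conj_mem_wk_iff k₀, hk₀u]
            simpa [mul_assoc] using hy
          have := mul_mem (mul_mem hk₀ (F.wk_t_le_L h hy')) (inv_mem hk₀)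
          simpa [mul_assoc] using this
        obtain ⟨Fu⟩ := (weak_conj h huJ).frame
        have hcent : ∀ y ∈ wk u, (u * t) * y = y * (u * t) := by
          intro y hy
          have hyx : y * x = x * y := hlx y (hwuL hy)
          have hyc : y * ((c : G) * x * (c : G)⁻¹) = (c : G) * x * (c : G)⁻¹ * y := by
            have hy' : (c : G)⁻¹ * y * (c : G) ∈ wk t := by
              rw [← conj_mem_wk_iff (c : G), ← hu]
              simpa [mul_assoc] using hy
            have e := hlx _ (F.wk_t_le_L h hy')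
            rw [show y * ((c : G) * x * (c : G)⁻¹) = (c : G) * ((c : G)⁻¹ * y * c * x) * (c : G)⁻¹ by group, e]
            group
          rw [hcx] at hyc
          refine mul_right_cancel (b := x) ?_
          rw [mul_assoc (u * t) y x, hyx, ← mul_assoc (u * t) x y, ← hyc, ← mul_assoc]
        obtain ⟨a, ha⟩ := Fu.exists_el (x := u * t) (mul_mem (self_mem_wk u) (mem_wk
          (huJ.symm) huc))
        have hc' : ∀ y, a * y = y * a := fun y => Fu.el_injective (by
          rw [map_mul, map_mul, ha, hcent _ (Fu.el_mem y)])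
        rcases center_eq a (hc' _) (hc' _) (hc' _) with e | e
        · rw [e, map_one] at ha
          refine Subtype.ext ?_
          rw [ht']
          show (c : G) * t * (c : G)⁻¹ = t
          rw [← hu]
          exact (eq_inv_of_mul_eq_one_left ha.symm).trans
            (inv_eq_of_mul_eq_one_right (mul_self_of_order_two h.ht))
        · rw [e, Fu.el_z0] at ha
          exact absurd (mul_left_cancel (ha.symm.trans (mul_one u).symm)) ht1
      -- the odd core lies in `M`
      obtain ⟨ha, ha1, hat⟩ := F.E_ne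
      have hbx := hlx _ (F.wk_t_le_L h (F.E_le ha))
      have hbt := F.E_comm ha F.t_mem_E
      have hbC : F.el a0 ∈ C := (hmemC _).2 (by
        rw [← mul_assoc, hbt, mul_assoc, hbx, ← mul_assoc])
      obtain ⟨b, hb⟩ : ∃ b : C, b = ⟨F.el a0, hbC⟩ := ⟨_, rfl⟩
      have hcore : Cfsg.pPrimeCore 2 C ≤ M.subgroupOf C := by
        refine CfsgLib.Tech46.le_of_centralizers_le (p := 2) b t'
          (Subtype.ext (by rw [hb, SubmonoidClass.coe_pow, pow_two]; exact F.E_sq ha))
          (Subtype.ext (by rw [ht', SubmonoidClass.coe_pow, pow_two]; exact mul_self_of_order_two h.ht))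
          (Subtype.ext (by rw [hb, ht']; exact hbt)) _ _ CfsgLib.PCore.not_dvd_card_pPrimeCore
          ?_ ?_ fun i j hij y hy => ?_
        · rw [Subgroup.normalizer_eq_top]; exact Subgroup.mem_top _
        · rw [Subgroup.normalizer_eq_top]; exact Subgroup.mem_top _
        · obtain ⟨v, hv, hvE, hv1⟩ : ∃ v : G, v = ((b ^ i * t' ^ j : C) : G) ∧ v ∈ F.E ∧ v ≠ 1 := by
            refine ⟨_, rfl, ?_⟩
            rcases hij with ⟨hi, rfl⟩ | ⟨rfl, rfl⟩
            · interval_cases i
              · rw [pow_zero, one_mul, pow_one, ht']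
                exact ⟨F.t_mem_E, ht1⟩
              · rw [pow_one, pow_one, hb, ht']
                refine ⟨mul_mem ha F.t_mem_E, fun e => hat ?_⟩
                exact (eq_inv_of_mul_eq_one_left e).trans
                  (inv_eq_of_mul_eq_one_right (mul_self_of_order_two h.ht))
            · rw [pow_one, pow_zero, mul_one, hb]
              exact ⟨ha, ha1⟩
          have hc := congrArg Subtype.val (Subgroup.mem_centralizer_singleton_iff.1 hy.2)
          rw [Subgroup.mem_subgroupOf, hM]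
          refine h.centralizer_le_normalizer F hvE hv1 ?_
          rw [hv]
          exact hc
      have hCM : ∀ c : C, (c : G) ∈ M := fun c => by
        have hz := hcore (CfsgLib.Involutions.zstar C t' hiso c)
        rw [Subgroup.mem_subgroupOf, ht'] at hz
        rw [hM]
        refine h.mem_normalizer_of_conj F ?_
        rw [← hM]
        have := mul_mem hz htM
        simpa [mul_assoc] using this
      have hkM := hLM hk
      have hgC : k⁻¹ * g * k ∈ C := (hmemC _).2 (by
        rw [hw] at hgw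
        rw [show k⁻¹ * g * k * (t * x) = k⁻¹ * (g * (k * (t * x) * k⁻¹)) * k by group, hgw]
        group)
      have := mul_mem (mul_mem hkM (hCM ⟨_, hgC⟩)) (inv_mem hkM)
      simpa [mul_assoc] using this
  -- hence `M` is strongly embedded
  have hK' : ∀ v ∈ M, v * v = 1 → ∃ e, IsConj t e ∧ e ∈ M ∧ v * e = e * v := by
    intro v hv hv2
    rw [hM] at hv
    have hu : ∀ x ∈ {x : G | ∃ l ∈ F.L, l * t * l⁻¹ = x}, v * x * v⁻¹ ∈
        {x : G | ∃ l ∈ F.L, l * t * l⁻¹ = x} := by
      rintro _ ⟨l, hl, rfl⟩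
      refine h.conj_of_normalizer F ((isConj_iff.2 ⟨v * l, by group⟩))
        (mul_mem (mul_mem hv (h.L_le_normalizer F ?_)) (inv_mem hv))
      exact mul_mem (mul_mem hl (h.t_mem_L F)) (inv_mem hl)
    obtain ⟨e, ⟨l, hl, rfl⟩, hc⟩ := h.exists_commute _ (h.class_odd F) hv2 hu
    exact ⟨_, isConj_iff.2 ⟨l, rfl⟩, hLM (mul_mem (mul_mem hl (h.t_mem_L F)) (inv_mem hl)), hc⟩
  have hSE : Cfsg.IsStronglyEmbedded M := by
    refine ⟨hMtop, ?_, fun g hg => ?_⟩
    · rw [even_iff_two_dvd, ← h.ht]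
      exact M.orderOf_dvd_natCard htM
    · rw [← Nat.not_even_iff_odd, even_iff_two_dvd]
      intro h2
      obtain ⟨z, hz⟩ := exists_prime_orderOf_dvd_card' 2 h2
      have hw := (Subgroup.orderOf_coe z).trans hz
      obtain ⟨w, hwM, v, hvM, hvw⟩ := z
      change g * v * g⁻¹ = w at hvw
      change orderOf w = 2 at hw
      have hw2 : w * w = 1 := by rw [← pow_two, ← hw, pow_orderOf_eq_one]
      have hw1 : w ≠ 1 := fun e => by rw [e, orderOf_one] at hw; omega
      have hv2 : v * v = 1 := by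
        rw [show v = g⁻¹ * w * g by rw [← hvw]; group,
          show g⁻¹ * w * g * (g⁻¹ * w * g) = g⁻¹ * (w * w) * g by group, hw2]
        group
      obtain ⟨f, hfJ, hfM, hf⟩ := hK' v hvM hv2
      have hgf : g * f * g⁻¹ ∈ M := hB w hwM hw2 hw1 _ (by
        rw [← hvw, show g * f * g⁻¹ * (g * v * g⁻¹) = g * (f * v) * g⁻¹ by group, ← hf]
        group)
      obtain ⟨l, hl, rfl⟩ := h.conj_of_normalizer F hfJ (hM ▸ hfM)
      have hgl : g * l ∈ M := by
        rw [hM]
        refine h.mem_normalizer_of_conj F ?_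
        rw [← hM]
        simpa [mul_assoc] using hgf
      refine hg ?_
      have := mul_mem hgl (inv_mem (hLM hl))
      rwa [mul_inv_cancel_right] at this
  -- no involution centralizes `L`
  have hXodd : ∀ x ∈ Subgroup.centralizer (F.L : Set G), x * x = 1 → x = 1 := by
    intro x hx hx2
    by_contra hx1
    have hJx : IsConj t x := CfsgLib.StrongEmbedding.isConj_involutions hSE h.ht
      (orderOf_eq_prime (by rw [pow_two, hx2]) hx1)
    obtain ⟨l, hl, e⟩ := h.conj_of_normalizer F hJx (Subgroup.centralizer_le_normalizer _ hx)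
    have hxL : x ∈ F.L := e ▸ mul_mem (mul_mem hl (h.t_mem_L F)) (inv_mem hl)
    exact hx1 (Subgroup.mem_bot.1 (hdisj ▸ (⟨hxL, hx⟩ :
      x ∈ F.L ⊓ Subgroup.centralizer (F.L : Set G))))
  obtain ⟨u, hu, huM⟩ := CfsgLib.StrongEmbedding.exists_involution_notMem hSE
  have hxy : ((1 : G) : G ⧸ M) ≠ ((u : G) : G ⧸ M) := fun e => huM (by
    rw [QuotientGroup.eq] at e; simpa using e)
  obtain ⟨D, hD⟩ : ∃ D, D = M ⊓ M.map (MulAut.conj u).toMonoidHom := ⟨_, rfl⟩
  have hDodd : Odd (Nat.card D) := hD ▸ hSE.2.2 u huM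
  -- the projection of `D` to `L` is transitive on the class of `t`
  have hcomm : ∀ (a : F.L) (b : Subgroup.centralizer (F.L : Set G)),
      Commute (F.L.subtype a) ((Subgroup.centralizer (F.L : Set G)).subtype b) := fun a b =>
    Subgroup.mem_centralizer_iff.1 b.2 a a.2
  obtain ⟨φ, hφ⟩ : ∃ φ : F.L × Subgroup.centralizer (F.L : Set G) →* G,
      φ = MonoidHom.noncommCoprod _ _ hcomm := ⟨_, rfl⟩
  have hφinj : Function.Injective φ := by
    rw [hφ]
    refine (MonoidHom.noncommCoprod_injective _ _ hcomm).2 ⟨Subtype.val_injective, Subtype.val_injective, ?_⟩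
    rw [Subgroup.range_subtype, Subgroup.range_subtype, disjoint_iff]
    exact hdisj
  obtain ⟨P, hP⟩ : ∃ P : Subgroup F.L, P = (D.comap φ).map (MonoidHom.fst _ _) := ⟨_, rfl⟩
  have hPdvd : Nat.card P ∣ Nat.card D := by
    rw [hP]
    exact (Subgroup.card_map_dvd _ _).trans
      (Subgroup.card_dvd_of_injective (φ.subgroupComap D) (fun a b e =>
        Subtype.ext (hφinj (congrArg Subtype.val e))))
  have hK : Nat.card {x : G | ∃ l ∈ F.L, l * t * l⁻¹ = x} ∣ Nat.card P := by
    let K : Type u := {x : G | ∃ l ∈ F.L, l * t * l⁻¹ = x}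
    letI act : MulAction P K :=
      { smul := fun p x => ⟨((p : F.L) : G) * x.1 * ((p : F.L) : G)⁻¹, by
          obtain ⟨l, hl, e⟩ := x.2
          exact ⟨(p : F.L) * l, mul_mem (p : F.L).2 hl, by rw [← e]; group⟩⟩
        one_smul := fun x => Subtype.ext (by simp [HSMul.hSMul, SMul.smul])
        mul_smul := fun a b x => Subtype.ext (by simp [HSMul.hSMul, SMul.smul, mul_assoc]) }
    let x₀ : K := ⟨t, 1, one_mem _, by group⟩
    have htrans : MulAction.orbit P x₀ = Set.univ := by
      refine Set.eq_univ_of_forall fun x => ?_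
      obtain ⟨x, hx⟩ := x
      obtain ⟨l, hl, rfl⟩ := hx
      have hxJ : IsConj t (l * t * l⁻¹) := isConj_iff.2 ⟨l, rfl⟩
      obtain ⟨d, hdx, hdy, hd⟩ := CfsgLib.StrongEmbedding.two_point_transitive hSE hxy h.ht
        (CfsgLib.StrongEmbedding.mem_iff_smul_base.1 htM) (weak_conj h hxJ).ht
        (CfsgLib.StrongEmbedding.mem_iff_smul_base.1
          (hLM (mul_mem (mul_mem hl (h.t_mem_L F)) (inv_mem hl))))
      have hdD : d ∈ D := hD ▸ CfsgLib.StrongEmbedding.mem_inf_map_conj_iff.2 ⟨hdx, hdy⟩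
      have hdM : d ∈ M := (hD ▸ hdD : d ∈ M ⊓ _).1
      obtain ⟨a, ha, c, hc, rfl⟩ := h.normalizer_eq F (hM ▸ hdM)
      refine ⟨⟨⟨a, ha⟩, hP ▸ ⟨(⟨a, ha⟩, ⟨c, hc⟩), ?_, rfl⟩⟩, Subtype.ext ?_⟩
      · show φ _ ∈ D
        rw [hφ]
        exact hdD
      · show a * t * a⁻¹ = l * t * l⁻¹
        rw [← hd, show a * c * t * (a * c)⁻¹ = a * (c * t * c⁻¹) * a⁻¹ by group,
          ← Subgroup.mem_centralizer_iff.1 hc t (h.t_mem_L F), mul_inv_cancel_right]
    have := Nat.card_congr (MulAction.orbitProdStabilizerEquivGroup P x₀)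
    rw [Nat.card_prod, htrans, Nat.card_univ] at this
    exact ⟨_, this.symm⟩
  rw [hKcard] at hK
  have hdd : Nat.card P ∣ 21945 := by
    have h1 : Nat.card P ∣ 8 * 21945 := by
      rw [show 8 * 21945 = 175560 by norm_num, ← hLcard]
      exact Subgroup.card_subgroup_dvd_card P
    refine Nat.Coprime.dvd_of_dvd_mul_left ?_ h1
    exact (Nat.Coprime.pow_right 3 ((Nat.coprime_two_right).2 (hDodd.of_dvd_nat hPdvd)) :
      Nat.Coprime (Nat.card P) (2 ^ 3))
  have hsq : Squarefree (21945 : ℕ) := by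
    rw [Nat.squarefree_iff_nodup_primeFactorsList (by norm_num)]
    have e : ([3, 5, 7, 11, 19] : List ℕ).Perm (Nat.primeFactorsList 21945) :=
      Nat.primeFactorsList_unique (by norm_num) (by norm_num)
    exact e.nodup_iff.1 (by decide)
  obtain ⟨p, hp⟩ := exists_order_of_squarefree (hsq.squarefree_of_dvd hdd) hK
  obtain ⟨e⟩ := hJ
  refine not_allowed _ hp ?_
  rw [← Subgroup.orderOf_coe, ← e.orderOf_eq]
  exact CfsgLib.Recog.JankoOneSpectrum.orderOf_mem _

omit h in
theorem mem_L (hrec : RecogJ1.{u}) (n : ℕ) : ∀ (H : Type u) [Group H] [Finite H] (s : H) (F : Frame s),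
    Weak s → Nat.card H = n → ∀ v, IsConj s v → v ∈ F.L := by
  induction n using Nat.strong_induction_on with
  | _ n ih =>
    intro H _ _ s F hs hn v hv
    have hM := mem_all hrec n s hn (fun K _ _ r F' hr hlt => ih _ hlt K r F' hr rfl) hs F
    obtain ⟨k, hk, e⟩ := hs.conj_of_normalizer F hv (hM ▸ Subgroup.mem_top v)
    exact e ▸ mul_mem (mul_mem hk (hs.t_mem_L F)) (inv_mem hk)

/-- The normal closure of `t` is `J₁`. -/
theorem Weak.isoJ1_normalClosure (hrec : RecogJ1.{u}) :
    Cfsg.Spor.IsoJ1 ↥(Subgroup.normalClosure ({t} : Set G)) := by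
  obtain ⟨F⟩ := h.frame
  have hall := mem_L hrec _ G t F h rfl
  have hnorm : ∀ g, g ∈ Subgroup.normalizer (F.L : Set G) := fun g =>
    h.mem_normalizer_of_conj F (h.L_le_normalizer F (hall _ (isConj_iff.2 ⟨g, rfl⟩)))
  have heq : Subgroup.normalClosure ({t} : Set G) = F.L := by
    refine le_antisymm ((Subgroup.closure_le _).2 fun x hx => ?_) (iSup₂_le fun s hs => ?_)
    · obtain ⟨a, ha, hax⟩ := Group.mem_conjugatesOfSet_iff.1 hx
      rw [Set.mem_singleton_iff] at ha
      exact hall x (ha ▸ hax)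
    · refine (Subgroup.closure_le _).2 fun x ⟨g, hg, _⟩ => ?_
      exact Subgroup.subset_closure (Group.mem_conjugatesOfSet_iff.2 ⟨t, rfl,
        (h.isConj_E F hs.1 hs.2).trans (isConj_iff.2 ⟨g, hg.symm⟩)⟩)
  rw [heq]
  exact (h.isoJ1 F hrec).1

end CfsgLib.WeakJanko
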