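import Cfsg.Agent.Lib.Recognition.WeakJanko.Model
import Cfsg.Agent.Lib.Characters.Decomp
import Mathlib.GroupTheory.Sylow

/-!
The weak closure of an involution in its centralizer, when it is `Z₂ × Alt(5)`.
-/

set_option autoImplicit false
set_option linter.style.haveILetI false

namespace CfsgLib.WeakJanko

open scoped Pointwise

variable {G : Type*} [Group G]

/-- The weak closure of `t` in its centralizer. -/
def wk (t : G) : Subgroup G :=
  Subgroup.closure {x : G | ∃ g : G, x = g * t * g⁻¹ ∧ x * t = t * x}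

theorem mem_wk {t x : G} (h : IsConj t x) (hx : x * t = t * x) : x ∈ wk t := by
  obtain ⟨g, rfl⟩ := isConj_iff.1 h
  exact Subgroup.subset_closure ⟨g, rfl, hx⟩

theorem self_mem_wk (t : G) : t ∈ wk t := mem_wk (IsConj.refl t) rfl

theorem wk_le {t : G} : wk t ≤ Subgroup.centralizer ({t} : Set G) :=
  (Subgroup.closure_le _).2 fun _ ⟨_, _, hx⟩ => Subgroup.mem_centralizer_singleton_iff.2 hx

theorem wk_comm {t x : G} (hx : x ∈ wk t) : x * t = t * x :=
  Subgroup.mem_centralizer_singleton_iff.1 (wk_le hx)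

theorem conj_mem_wk {t x : G} (g : G) (hx : x ∈ wk t) : g * x * g⁻¹ ∈ wk (g * t * g⁻¹) := by
  have hle : wk t ≤ (wk (g * t * g⁻¹)).comap (MulAut.conj g).toMonoidHom :=
    (Subgroup.closure_le _).2 fun y ⟨k, hk, hy⟩ => by
      show g * y * g⁻¹ ∈ wk (g * t * g⁻¹)
      refine mem_wk (isConj_iff.2 ⟨g * k * g⁻¹, by rw [hk]; group⟩) ?_
      rw [show g * y * g⁻¹ * (g * t * g⁻¹) = g * (y * t) * g⁻¹ by group, hy]
      group
  exact hle hx

theorem conj_mem_wk_iff {t x : G} (g : G) : g * x * g⁻¹ ∈ wk (g * t * g⁻¹) ↔ x ∈ wk t := by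
  refine ⟨fun h => ?_, conj_mem_wk g⟩
  have := conj_mem_wk g⁻¹ h
  simpa [mul_assoc] using this

theorem conj_mem_wk_of_comm {t x g : G} (hg : g * t = t * g) (hx : x ∈ wk t) :
    g * x * g⁻¹ ∈ wk t := by
  have := conj_mem_wk g hx
  rwa [show g * t * g⁻¹ = t by rw [hg, mul_inv_cancel_right]] at this

/-- An identification of the weak closure with the model. -/
structure Frame (t : G) where
  /-- The isomorphism. -/
  e : wk t ≃* Mdl
  e_self : e ⟨t, self_mem_wk t⟩ = z0

/-- The elements of `G` corresponding to the elements of the model. -/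
def Frame.el {t : G} (F : Frame t) : Mdl →* G := (wk t).subtype.comp F.e.symm.toMonoidHom

variable {t : G}

theorem Frame.el_mem (F : Frame t) (x : Mdl) : F.el x ∈ wk t := (F.e.symm x).2

theorem Frame.el_injective (F : Frame t) : Function.Injective F.el := fun _ _ h =>
  F.e.symm.injective (Subtype.ext h)

theorem Frame.el_ne_one (F : Frame t) {x : Mdl} (hx : x ≠ 1) : F.el x ≠ 1 := fun h =>
  hx (F.el_injective (h.trans (map_one _).symm))

theorem Frame.el_z0 (F : Frame t) : F.el z0 = t := by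
  show ((F.e.symm z0 : wk t) : G) = t
  rw [← F.e_self, F.e.symm_apply_apply]

theorem Frame.exists_el (F : Frame t) {x : G} (hx : x ∈ wk t) : ∃ a, F.el a = x :=
  ⟨F.e ⟨x, hx⟩, congrArg Subtype.val (F.e.symm_apply_apply _)⟩

theorem nonempty_frame (ht : orderOf t = 2) (e : wk t ≃* Mdl) : Nonempty (Frame t) := by
  refine ⟨⟨e, ?_⟩⟩
  have hc : ∀ y : Mdl, e ⟨t, self_mem_wk t⟩ * y = y * e ⟨t, self_mem_wk t⟩ := fun y => by
    refine e.symm.injective ?_
    rw [map_mul, map_mul, e.symm_apply_apply]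
    exact Subtype.ext (wk_comm (e.symm y).2).symm
  refine (center_eq _ (hc _) (hc _) (hc _)).resolve_left fun h => ?_
  have h1 : t = 1 := congrArg Subtype.val (e.map_eq_one_iff.1 h)
  rw [h1, orderOf_one] at ht
  omega

/-- Conjugation between weak closures. -/
def wkConj {s : G} (g : G) (hs : g * t * g⁻¹ = s) : wk s ≃* wk t where
  toFun x := ⟨g⁻¹ * (x : G) * g, by
    rw [← conj_mem_wk_iff g (x := g⁻¹ * (x : G) * g), hs]
    simpa [mul_assoc] using x.2⟩
  invFun y := ⟨g * (y : G) * g⁻¹, hs ▸ conj_mem_wk g y.2⟩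
  left_inv x := Subtype.ext (by simp [mul_assoc])
  right_inv y := Subtype.ext (by simp [mul_assoc])
  map_mul' a b := Subtype.ext (by simp [mul_assoc])

/-- The frame moved by conjugation. -/
def Frame.conj (F : Frame t) {s : G} (g : G) (hs : g * t * g⁻¹ = s) : Frame s where
  e := (wkConj g hs).trans F.e
  e_self := by
    rw [← F.e_self]
    refine congrArg F.e (Subtype.ext ?_)
    show g⁻¹ * s * g = t
    rw [← hs]
    group

theorem Frame.conj_el (F : Frame t) {s : G} (g : G) (hs : g * t * g⁻¹ = s) (x : Mdl) :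
    (F.conj g hs).el x = g * F.el x * g⁻¹ := rfl

/-- The Sylow `2`-subgroup of the weak closure given by the frame. -/
def Frame.E (F : Frame t) : Subgroup G :=
  (({ carrier := {x | InE x}
      one_mem' := by decide
      mul_mem' := fun ha hb => (inE_mul _ _ ha hb).1
      inv_mem' := fun {a} ha => by
        rw [inv_eq_of_mul_eq_one_right (inE_sq a ha)]; exact ha } : Subgroup Mdl)).map F.el

theorem Frame.mem_E (F : Frame t) {x : G} : x ∈ F.E ↔ ∃ a, InE a ∧ F.el a = x := Iff.rfl

theorem Frame.el_mem_E (F : Frame t) {a : Mdl} (ha : InE a) : F.el a ∈ F.E := ⟨a, ha, rfl⟩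

theorem Frame.el_mem_E_iff (F : Frame t) {a : Mdl} : F.el a ∈ F.E ↔ InE a :=
  ⟨fun ⟨_, hb, e⟩ => F.el_injective e ▸ hb, F.el_mem_E⟩

theorem Frame.E_le (F : Frame t) : F.E ≤ wk t := by
  rintro _ ⟨a, -, rfl⟩
  exact F.el_mem a

theorem Frame.t_mem_E (F : Frame t) : t ∈ F.E := ⟨z0, (by decide : InE z0), F.el_z0⟩

theorem Frame.E_sq (F : Frame t) {x : G} (hx : x ∈ F.E) : x * x = 1 := by
  obtain ⟨a, ha, rfl⟩ := hx
  rw [← map_mul, inE_sq a ha, map_one]

theorem Frame.E_comm (F : Frame t) {x y : G} (hx : x ∈ F.E) (hy : y ∈ F.E) : x * y = y * x := by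
  obtain ⟨a, ha, rfl⟩ := hx
  obtain ⟨b, hb, rfl⟩ := hy
  rw [← map_mul, ← map_mul, (inE_mul a b ha hb).2]

theorem Frame.card_E (F : Frame t) : Nat.card F.E = 8 := by
  rw [Frame.E, Subgroup.card_map_of_injective F.el_injective]
  show Nat.card {x : Mdl // InE x} = 8
  rw [Nat.card_eq_fintype_card, Fintype.card_subtype, inE_card]

theorem Frame.conj_E (F : Frame t) {s : G} (g : G) (hs : g * t * g⁻¹ = s) {x : G} :
    x ∈ (F.conj g hs).E ↔ g⁻¹ * x * g ∈ F.E := by
  constructor
  · rintro ⟨a, ha, rfl⟩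
    refine ⟨a, ha, ?_⟩
    rw [F.conj_el]
    group
  · rintro ⟨a, ha, e⟩
    refine ⟨a, ha, ?_⟩
    rw [F.conj_el, e]
    group

theorem Frame.card_wk (F : Frame t) : Nat.card (wk t) = 120 := by
  rw [Nat.card_congr F.e.toEquiv, Nat.card_prod, nat_card_alternatingGroup, Nat.card_fin]
  simp [Nat.factorial]

/-- Any subgroup of order eight of the weak closure is conjugate in it to the standard one. -/
theorem Frame.exists_conj_E [Finite G] (F : Frame t) {Q : Subgroup G} (hQ : Q ≤ wk t)
    (hc : Nat.card Q = 8) : ∃ g ∈ wk t, ∀ x, x ∈ Q ↔ g * x * g⁻¹ ∈ F.E := by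
  haveI : Fact (Nat.Prime 2) := ⟨Nat.prime_two⟩
  have h3 : (Nat.card (wk t)).factorization 2 = 3 := by
    rw [F.card_wk]
    have h1 := (Nat.Prime.pow_dvd_iff_le_factorization Nat.prime_two (by norm_num : (120 : ℕ) ≠ 0)
      (k := 3)).1 (by norm_num)
    have h2 : ¬ 4 ≤ (120 : ℕ).factorization 2 := fun h => by
      have := (Nat.Prime.pow_dvd_iff_le_factorization Nat.prime_two (by norm_num : (120 : ℕ) ≠ 0)
        (k := 4)).2 h
      norm_num at this
    omega
  let P₁ : Sylow 2 (wk t) := Sylow.ofCard (Q.subgroupOf (wk t)) (by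
    rw [Nat.card_congr (Subgroup.subgroupOfEquivOfLe hQ).toEquiv, hc, h3]; norm_num)
  let P₂ : Sylow 2 (wk t) := Sylow.ofCard (F.E.subgroupOf (wk t)) (by
    rw [Nat.card_congr (Subgroup.subgroupOfEquivOfLe F.E_le).toEquiv, F.card_E, h3]; norm_num)
  obtain ⟨g, hg⟩ := MulAction.exists_smul_eq (wk t) P₁ P₂
  refine ⟨g, g.2, fun x => ⟨fun hx => ?_, fun hx => ?_⟩⟩
  · have : MulAut.conj g • (⟨x, hQ hx⟩ : wk t) ∈ (P₂ : Subgroup (wk t)) := by
      rw [← hg]
      exact Subgroup.smul_mem_pointwise_smul _ (MulAut.conj g) _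
        (show (⟨x, hQ hx⟩ : wk t) ∈ Q.subgroupOf (wk t) from hx)
    exact this
  · have hxw : x ∈ wk t := by
      have := mul_mem (mul_mem (inv_mem g.2) (F.E_le hx)) g.2
      simpa [mul_assoc] using this
    have h' : MulAut.conj g • (⟨x, hxw⟩ : wk t) ∈ (MulAut.conj g • (P₁ : Subgroup (wk t))) := by
      show _ ∈ ((g • P₁ : Sylow 2 (wk t)) : Subgroup (wk t))
      rw [hg]
      exact hx
    exact ((Subgroup.smul_mem_pointwise_smul_iff (a := MulAut.conj g)
      (S := (P₁ : Subgroup (wk t))) (x := (⟨x, hxw⟩ : wk t))).1 h' :)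

/-- Every involution of the weak closure is conjugate in it into the standard subgroup. -/
theorem Frame.exists_conj_mem_E (F : Frame t) {x : G} (hx : x ∈ wk t) (hx2 : x * x = 1) :
    ∃ g ∈ wk t, g * x * g⁻¹ ∈ F.E := by
  obtain ⟨a, rfl⟩ := F.exists_el hx
  obtain ⟨g, hg⟩ := conj_into_E a (F.el_injective (by rw [map_mul, hx2, map_one]))
  exact ⟨F.el g, F.el_mem g, by rw [← map_inv, ← map_mul, ← map_mul]; exact F.el_mem_E hg⟩

theorem model_conj :
    (y0 * y0) * a0 * (y0 * y0)⁻¹ = b0 ∧ y0 * a0 * y0⁻¹ = a0 * b0 ∧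
    y0 * b0 * y0⁻¹ = a0 ∧ (y0 * y0) * (a0 * b0) * (y0 * y0)⁻¹ = a0 ∧
    (y0 * y0) * (z0 * a0) * (y0 * y0)⁻¹ = z0 * b0 ∧ y0 * (z0 * a0) * y0⁻¹ = z0 * (a0 * b0) ∧
    y0 * (z0 * b0) * y0⁻¹ = z0 * a0 ∧ (y0 * y0) * (z0 * (a0 * b0)) * (y0 * y0)⁻¹ = z0 * a0 := by
  decide +kernel

theorem model_cards : ({z0, a0, b0, a0 * b0} : Finset Mdl).card = 4 ∧
    ({z0, z0 * a0, z0 * b0, z0 * (a0 * b0)} : Finset Mdl).card = 4 := by
  decide +kernel

theorem inE_z0 : InE z0 := (inE_iff _).2 (by simp)

/-- All involutions of the weak closure are conjugate to `t`. -/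
structure Weak (t : G) : Prop where
  ht : orderOf t = 2
  frame : Nonempty (Frame t)
  conj : ∀ x ∈ wk t, x * x = 1 → x ≠ 1 → IsConj t x

theorem mul_self_of_order_two {t : G} (ht : orderOf t = 2) : t * t = 1 := by
  rw [← pow_two, ← ht, pow_orderOf_eq_one]

/-- A `2`-central involution whose weak closure is `Z₂ × Alt(5)` is conjugate to all involutions of the
weak closure. -/
theorem weak_of_central [Finite G] {t : G} (ht : orderOf t = 2) (S : Sylow 2 G)
    (htS : t ∈ (S : Subgroup G)) (htc : ∀ s ∈ (S : Subgroup G), s * t = t * s) (e : wk t ≃* Mdl) :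
    Weak t := by
  classical
  haveI : Fact (Nat.Prime 2) := ⟨Nat.prime_two⟩
  obtain ⟨F₀⟩ := nonempty_frame ht e
  -- a frame whose standard subgroup lies in `S`
  obtain ⟨F, hFS⟩ : ∃ F : Frame t, F.E ≤ (S : Subgroup G) := by
    have hSC : (S : Subgroup G) ≤ Subgroup.centralizer ({t} : Set G) := fun s hs =>
      Subgroup.mem_centralizer_singleton_iff.2 (htc s hs)
    set C := Subgroup.centralizer ({t} : Set G)
    have hp : IsPGroup 2 (F₀.E.subgroupOf C) := IsPGroup.of_card (n := 3) (by
      rw [Nat.card_congr (Subgroup.subgroupOfEquivOfLe (F₀.E_le.trans wk_le)).toEquiv, F₀.card_E]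
      norm_num)
    obtain ⟨Q, hQ⟩ := hp.exists_le_sylow
    obtain ⟨c, hc⟩ := MulAction.exists_smul_eq C Q (S.subtype hSC)
    refine ⟨F₀.conj (c : G) (by
      rw [Subgroup.mem_centralizer_singleton_iff.1 c.2, mul_inv_cancel_right]), fun x hx => ?_⟩
    rw [F₀.conj_E] at hx
    have hxC : (c : G)⁻¹ * x * (c : G) ∈ C := F₀.E_le.trans wk_le hx
    have : MulAut.conj c • (⟨_, hxC⟩ : C) ∈ (S.subtype hSC : Subgroup C) := by
      rw [← hc]
      exact Subgroup.smul_mem_pointwise_smul _ (MulAut.conj c) _ (hQ hx)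
    rw [Sylow.coe_subtype, Subgroup.mem_subgroupOf] at this
    simpa [mul_assoc] using this
  have hEeq : ∀ x ∈ (S : Subgroup G), x ∈ wk t → x ∈ F.E := by
    intro x hxS hxW
    by_contra hxE
    have hp : IsPGroup 2 ↥((S : Subgroup G) ⊓ wk t) := S.2.to_le inf_le_left
    obtain ⟨k, hk⟩ := IsPGroup.iff_card.1 hp
    have hle : F.E ≤ (S : Subgroup G) ⊓ wk t := le_inf hFS F.E_le
    have h8 := Subgroup.card_dvd_of_le hle
    rw [F.card_E, hk] at h8
    have h120 := Subgroup.card_dvd_of_le (inf_le_right : (S : Subgroup G) ⊓ wk t ≤ wk t)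
    rw [hk, F.card_wk] at h120
    have hk3 : k ≤ 3 := by
      by_contra hk3
      have := (pow_dvd_pow 2 (show 4 ≤ k by omega)).trans h120
      norm_num at this
    have heq := Subgroup.eq_of_le_of_card_ge hle (by
      rw [F.card_E, hk]; exact le_trans (Nat.pow_le_pow_right (by norm_num) hk3) (by norm_num))
    exact hxE (heq ▸ ⟨hxS, hxW⟩)
  have hco : ∀ a b g : Mdl, g * a * g⁻¹ = b → IsConj t (F.el a) → IsConj t (F.el b) :=
    fun a b g h ha => ha.trans (isConj_iff.2 ⟨F.el g, by rw [← map_inv, ← map_mul, ← map_mul, h]⟩)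
  have hz : IsConj t (F.el z0) := by rw [F.el_z0]
  have hA : IsConj t (F.el a0) → IsConj t (F.el b0) ∧ IsConj t (F.el (a0 * b0)) := fun h =>
    ⟨hco a0 b0 (y0 * y0) model_conj.1 h, hco a0 (a0 * b0) y0 model_conj.2.1 h⟩
  have hA' : IsConj t (F.el b0) ∨ IsConj t (F.el (a0 * b0)) → IsConj t (F.el a0) := by
    rintro (h | h)
    · exact hco b0 a0 y0 model_conj.2.2.1 h
    · exact hco (a0 * b0) a0 (y0 * y0) model_conj.2.2.2.1 h
  have hB : IsConj t (F.el (z0 * a0)) →
      IsConj t (F.el (z0 * b0)) ∧ IsConj t (F.el (z0 * (a0 * b0))) := fun h =>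
    ⟨hco _ _ (y0 * y0) model_conj.2.2.2.2.1 h, hco _ _ y0 model_conj.2.2.2.2.2.1 h⟩
  have hB' : IsConj t (F.el (z0 * b0)) ∨ IsConj t (F.el (z0 * (a0 * b0))) →
      IsConj t (F.el (z0 * a0)) := by
    rintro (h | h)
    · exact hco _ _ y0 model_conj.2.2.2.2.2.2.1 h
    · exact hco _ _ (y0 * y0) model_conj.2.2.2.2.2.2.2 h
  suffices hall : IsConj t (F.el a0) ∧ IsConj t (F.el (z0 * a0)) by
    refine ⟨ht, ⟨F⟩, fun x hx hx2 hx1 => ?_⟩
    obtain ⟨g, -, hgE⟩ := F.exists_conj_mem_E hx hx2
    obtain ⟨a, ha, hax⟩ := hgE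
    have : IsConj t (F.el a) := by
      rcases (inE_iff a).1 ha with rfl | rfl | rfl | rfl | rfl | rfl | rfl | rfl
      · rw [map_one] at hax
        exact absurd (by simpa using hax.symm) hx1
      exacts [hall.1, (hA hall.1).1, (hA hall.1).2, hz, hall.2, (hB hall.2).1, (hB hall.2).2]
    exact (hax ▸ this).trans (isConj_iff.2 ⟨g⁻¹, by group⟩)
  by_contra hnot
  let gd : Mdl → Prop := fun a => InE a ∧ IsConj t (F.el a)
  have hgd : (Finset.univ.filter gd).card = 4 ∨ (Finset.univ.filter gd).card = 1 := by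
    have hne : ¬ IsConj t (F.el 1) := fun h => by
      obtain ⟨g, hg⟩ := isConj_iff.1 h
      rw [map_one] at hg
      have : t = 1 := by simpa using hg
      rw [this, orderOf_one] at ht
      omega
    by_cases ha : IsConj t (F.el a0)
    · left
      have hb : ¬ IsConj t (F.el (z0 * a0)) := fun h => hnot ⟨ha, h⟩
      rw [show Finset.univ.filter gd = {z0, a0, b0, a0 * b0} from ?_]
      · convert model_cards.1
      ext a
      simp only [Finset.mem_filter, Finset.mem_univ, true_and, gd, Finset.mem_insert,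
        Finset.mem_singleton]
      constructor
      · rintro ⟨h1, h2⟩
        rcases (inE_iff a).1 h1 with rfl | h | h | h | h | rfl | rfl | rfl
        · exact absurd h2 hne
        · exact Or.inr (Or.inl h)
        · exact Or.inr (Or.inr (Or.inl h))
        · exact Or.inr (Or.inr (Or.inr h))
        · exact Or.inl h
        · exact absurd h2 hb
        · exact absurd (hB' (Or.inl h2)) hb
        · exact absurd (hB' (Or.inr h2)) hb
      · rintro (rfl | rfl | rfl | rfl)
        exacts [⟨inE_z0, hz⟩, ⟨(inE_iff _).2 (by simp), ha⟩, ⟨(inE_iff _).2 (by simp), (hA ha).1⟩,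
          ⟨(inE_iff _).2 (by simp), (hA ha).2⟩]
    · by_cases hb : IsConj t (F.el (z0 * a0))
      · left
        rw [show Finset.univ.filter gd = {z0, z0 * a0, z0 * b0, z0 * (a0 * b0)} from ?_]
        · convert model_cards.2
        ext a
        simp only [Finset.mem_filter, Finset.mem_univ, true_and, gd, Finset.mem_insert,
          Finset.mem_singleton]
        constructor
        · rintro ⟨h1, h2⟩
          rcases (inE_iff a).1 h1 with rfl | rfl | rfl | rfl | h | h | h | h
          · exact absurd h2 hne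
          · exact absurd h2 ha
          · exact absurd (hA' (Or.inl h2)) ha
          · exact absurd (hA' (Or.inr h2)) ha
          · exact Or.inl h
          · exact Or.inr (Or.inl h)
          · exact Or.inr (Or.inr (Or.inl h))
          · exact Or.inr (Or.inr (Or.inr h))
        · rintro (rfl | rfl | rfl | rfl)
          exacts [⟨inE_z0, hz⟩, ⟨(inE_iff _).2 (by simp), hb⟩, ⟨(inE_iff _).2 (by simp), (hB hb).1⟩,
            ⟨(inE_iff _).2 (by simp), (hB hb).2⟩]
      · right
        rw [show Finset.univ.filter gd = {z0} from ?_, Finset.card_singleton]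
        ext a
        simp only [Finset.mem_filter, Finset.mem_univ, true_and, gd, Finset.mem_singleton]
        constructor
        · rintro ⟨h1, h2⟩
          rcases (inE_iff a).1 h1 with rfl | rfl | rfl | rfl | h | rfl | rfl | rfl
          · exact absurd h2 hne
          · exact absurd h2 ha
          · exact absurd (hA' (Or.inl h2)) ha
          · exact absurd (hA' (Or.inr h2)) ha
          · exact h
          · exact absurd h2 hb
          · exact absurd (hB' (Or.inl h2)) hb
          · exact absurd (hB' (Or.inr h2)) hb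
        · rintro rfl
          exact ⟨inE_z0, hz⟩
  rcases hgd with h4 | h1
  · -- the class of `t` is odd, its fixed points under `S` are those of four elements
    let K : Type _ := {x : G // IsConj t x}
    letI act : MulAction (S : Subgroup G) K :=
      { smul := fun a x => ⟨(a : G) * x.1 * (a : G)⁻¹, x.2.trans (isConj_iff.2 ⟨(a : G), rfl⟩)⟩
        one_smul := fun x => Subtype.ext (by simp [HSMul.hSMul, SMul.smul])
        mul_smul := fun a b x => Subtype.ext (by simp [HSMul.hSMul, SMul.smul, mul_assoc]) }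
    let B : Type _ := {x : G // x ∈ F.E ∧ IsConj t x}
    letI actB : MulAction (S : Subgroup G) B :=
      { smul := fun a x => ⟨(a : G) * x.1 * (a : G)⁻¹,
          hEeq _ (mul_mem (mul_mem a.2 (hFS x.2.1)) (inv_mem a.2))
            (conj_mem_wk_of_comm (htc a a.2) (F.E_le x.2.1)),
          x.2.2.trans (isConj_iff.2 ⟨(a : G), rfl⟩)⟩
        one_smul := fun x => Subtype.ext (by simp [HSMul.hSMul, SMul.smul])
        mul_smul := fun a b x => Subtype.ext (by simp [HSMul.hSMul, SMul.smul, mul_assoc]) }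
    have smulK : ∀ (a : (S : Subgroup G)) (x : K), ((a • x : K) : G) = (a : G) * x.1 * (a : G)⁻¹ :=
      fun _ _ => rfl
    have smulB : ∀ (a : (S : Subgroup G)) (x : B), ((a • x : B) : G) = (a : G) * x.1 * (a : G)⁻¹ :=
      fun _ _ => rfl
    have hfix : Nat.card (MulAction.fixedPoints (S : Subgroup G) K) =
        Nat.card (MulAction.fixedPoints (S : Subgroup G) B) := by
      symm
      refine Nat.card_eq_of_bijective
        (fun x => ⟨⟨x.1.1, x.1.2.2⟩, fun a => Subtype.ext ?_⟩) ⟨fun a b hab => ?_, fun x => ?_⟩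
      · rw [smulK]; exact (smulB a x.1).symm.trans (congrArg Subtype.val (x.2 a))
      · exact Subtype.ext (Subtype.ext (congrArg (fun z : MulAction.fixedPoints (S : Subgroup G) K =>
          z.1.1) hab))
      · obtain ⟨⟨x, hxJ⟩, hx⟩ := x
        have hxc : ∀ a ∈ (S : Subgroup G), a * x = x * a := fun a ha =>
          mul_inv_eq_iff_eq_mul.1 (congrArg Subtype.val (hx ⟨a, ha⟩))
        have hxW : x ∈ wk t := mem_wk hxJ (hxc t htS).symm
        have hx2 : x * x = 1 := by
          obtain ⟨g, rfl⟩ := isConj_iff.1 hxJ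
          rw [show g * t * g⁻¹ * (g * t * g⁻¹) = g * (t * t) * g⁻¹ by group, mul_self_of_order_two ht]
          group
        have hp : IsPGroup 2 ↥((S : Subgroup G) ⊔ Subgroup.zpowers x) := by
          refine IsPGroup.to_sup_of_normal_left' S.2 ?_ ?_
          · intro a
            refine ⟨1, Subtype.ext ?_⟩
            obtain ⟨n, hn⟩ := a.2
            rw [SubmonoidClass.coe_pow, OneMemClass.coe_one, ← hn, pow_one, pow_two, ← zpow_add,
              ← two_mul, zpow_mul, zpow_two, hx2, one_zpow]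
          · rw [Subgroup.zpowers_le]
            exact Subgroup.centralizer_le_normalizer _
              (Subgroup.mem_centralizer_iff.2 fun a ha => hxc a ha)
        have hxS : x ∈ (S : Subgroup G) := by
          rw [← S.3 hp le_sup_left]
          exact Subgroup.mem_sup_right (Subgroup.mem_zpowers x)
        refine ⟨⟨⟨x, hEeq x hxS hxW, hxJ⟩, fun a => Subtype.ext ?_⟩, rfl⟩
        rw [smulB]
        exact mul_inv_eq_iff_eq_mul.2 (hxc a a.2)
    have hB4 : Nat.card B = 4 := by
      rw [← h4, ← Fintype.card_subtype, ← Nat.card_eq_fintype_card]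
      refine (Nat.card_eq_of_bijective (fun a => (⟨F.el a.1, F.el_mem_E a.2.1, a.2.2⟩ : B))
        ⟨fun a b hab => Subtype.ext (F.el_injective (congrArg Subtype.val hab :)), fun x => ?_⟩).symm
      obtain ⟨x, ⟨a, ha, rfl⟩, hx⟩ := x
      exact ⟨⟨a, ha, hx⟩, rfl⟩
    have m1 := S.2.card_modEq_card_fixedPoints (α := K)
    have m2 := S.2.card_modEq_card_fixedPoints (α := B)
    rw [hfix] at m1
    rw [hB4, Nat.ModEq] at m2
    rw [Nat.ModEq] at m1
    have hK : Nat.card K * Nat.card (Subgroup.centralizer ({t} : Set G)) = Nat.card G :=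
      CfsgLib.Characters.card_isConj_mul_card_centralizer t
    have hd : ¬ 2 ∣ Nat.card K := fun h2 => by
      obtain ⟨r, hr⟩ := Subgroup.card_dvd_of_le (show (S : Subgroup G) ≤
        Subgroup.centralizer ({t} : Set G) from fun s hs =>
          Subgroup.mem_centralizer_singleton_iff.2 (htc s hs))
      rw [hr, ← Subgroup.card_mul_index (S : Subgroup G)] at hK
      have : Nat.card K * r = (S : Subgroup G).index :=
        Nat.eq_of_mul_eq_mul_left (Nat.card_pos (α := (S : Subgroup G))) (by rw [← hK]; ring)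
      exact S.not_dvd_index (this ▸ dvd_mul_of_dvd_left h2 r)
    omega
  · -- only `t`: the weak closure would be cyclic
    have hle : wk t ≤ Subgroup.zpowers t := by
      refine (Subgroup.closure_le _).2 fun x ⟨g, hg, hxt⟩ => ?_
      have hxJ : IsConj t x := isConj_iff.2 ⟨g, hg.symm⟩
      have hxW := mem_wk hxJ hxt
      have hx2 : x * x = 1 := by
        rw [hg, show g * t * g⁻¹ * (g * t * g⁻¹) = g * (t * t) * g⁻¹ by group, mul_self_of_order_two ht]
        group
      obtain ⟨k, hk, a, ha, hax⟩ := F.exists_conj_mem_E hxW hx2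
      have hgood : a ∈ Finset.univ.filter gd := by
        simp only [Finset.mem_filter, Finset.mem_univ, true_and, gd]
        exact ⟨ha, hax ▸ hxJ.trans (isConj_iff.2 ⟨k, rfl⟩)⟩
      have hzm : z0 ∈ Finset.univ.filter gd := by
        simp only [Finset.mem_filter, Finset.mem_univ, true_and, gd]
        exact ⟨inE_z0, hz⟩
      rw [Finset.card_le_one.1 h1.le a hgood z0 hzm, F.el_z0] at hax
      have : x = t := by
        have hkt := wk_comm hk
        have e : k * t * k⁻¹ = t := by rw [hkt, mul_inv_cancel_right]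
        exact mul_left_cancel (mul_right_cancel (hax.symm.trans e.symm))
      exact this ▸ Subgroup.mem_zpowers t
    have h := Subgroup.card_le_of_le hle
    rw [F.card_wk, Nat.card_zpowers, ht] at h
    omega

end CfsgLib.WeakJanko
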