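import Cfsg.Agent.Lib.Recognition.WeakJanko.Normal
import Cfsg.Agent.Lib.Recognition.TwoTimesAlt.Main
import Cfsg.Agent.Lib.Transfer.Central
import Cfsg.Agent.Lib.Sporadic.J1
import Cfsg.Prelude.Def_Sporadic

/-!
The join `L` of the weak closures is the first Janko group, given the recognition of `J₁` among simple
groups by the involution centralizer.
-/

set_option autoImplicit false
set_option linter.style.haveILetI false

namespace CfsgLib.WeakJanko

open scoped commutatorElement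

universe u

/-- Recognition of `J₁` from the centralizer of an involution in a simple group with abelian Sylow
`2`-subgroups of order eight. -/
def RecogJ1 : Prop :=
  ∀ (Q : Type u) [Group Q] [Finite Q] [IsSimpleGroup Q] (S : Sylow 2 Q),
    IsMulCommutative (S : Subgroup Q) → Nat.card S = 8 → ∀ t : Q, orderOf t = 2 →
      (Subgroup.centralizer ({t} : Set Q) ≃* Mdl) → Cfsg.Spor.IsoJ1 Q

theorem fst_cases : ∀ w : Multiplicative (ZMod 2), w = 1 ∨ (w, (1 : alternatingGroup (Fin 5))) = z0 := by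
  decide +kernel

variable {G : Type u} [Group G] [Finite G] {t : G} (h : Weak t) (F : Frame t)
include h

theorem Weak.isoJ1 (hrec : RecogJ1.{u}) :
    Cfsg.Spor.IsoJ1 F.L ∧ F.L ⊓ Subgroup.centralizer (F.L : Set G) = ⊥ := by
  classical
  haveI : Fact (Nat.Prime 2) := ⟨Nat.prime_two⟩
  haveI : Fintype G := Fintype.ofFinite G
  have htL : t ∈ F.L := F.wk_t_le_L h (self_mem_wk t)
  obtain ⟨τ, hτ⟩ : ∃ τ : F.L, τ = ⟨t, htL⟩ := ⟨_, rfl⟩
  let Z := Subgroup.center F.L
  let q := QuotientGroup.mk' Z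
  have hZ : ∀ x : F.L, x ∈ Z ↔ (x : G) ∈ Subgroup.centralizer (F.L : Set G) := fun x => by
    rw [Subgroup.mem_center_iff, Subgroup.mem_centralizer_iff]
    exact ⟨fun hx y hy => congrArg Subtype.val (hx ⟨y, hy⟩), fun hx y => Subtype.ext (hx y y.2)⟩
  -- a conjugate of `τ` congruent to it modulo the centre is equal to it
  have hfix : ∀ l : F.L, q (l * τ * l⁻¹) = q τ → l * τ * l⁻¹ = τ := fun l e => by
    have hz : τ⁻¹ * (l * τ * l⁻¹) ∈ Z := QuotientGroup.eq.1 e.symm
    have hc : IsConj t (t * ((τ⁻¹ * (l * τ * l⁻¹) : F.L) : G)) := isConj_iff.2 ⟨(l : G), by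
      rw [hτ]; simp [mul_assoc]⟩
    have h1 := h.eq_one_of_mul F ((hZ _).1 hz) hc
    exact (inv_mul_eq_one.1 (Subtype.ext h1)).symm
  let φ : Mdl →* (F.L ⧸ Z) := q.comp (F.el.codRestrict F.L fun a => F.wk_t_le_L h (F.el_mem a))
  have hφτ : φ z0 = q τ := congrArg q (Subtype.ext (by rw [hτ]; exact F.el_z0))
  have hφinj : Function.Injective φ := by
    rw [injective_iff_map_eq_one]
    intro a ha
    have hz := (hZ _).1 ((QuotientGroup.eq_one_iff _).1 ha)
    have hc : ∀ y, a * y = y * a := fun y => F.el_injective (by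
      rw [map_mul, map_mul]
      exact (Subgroup.mem_centralizer_iff.1 hz _ (F.wk_t_le_L h (F.el_mem y))).symm)
    rcases center_eq a (hc _) (hc _) (hc _) with rfl | rfl
    · rfl
    · exfalso
      change F.el z0 ∈ _ at hz
      rw [F.el_z0] at hz
      obtain ⟨ha, ha1, hat⟩ := F.E_ne
      obtain ⟨l, hl, hla⟩ := (h.split F).1 _ ha ha1
      refine hat ?_
      rw [← hla, Subgroup.mem_centralizer_iff.1 hz l hl, mul_inv_cancel_right]
  have hqτ : orderOf (q τ) = 2 := by
    rw [← hφτ, orderOf_injective φ hφinj]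
    exact orderOf_eq_prime (by rw [pow_two, z0_sq]) z0_ne
  have hCC : Subgroup.centralizer ({q τ} : Set (F.L ⧸ Z)) = φ.range := by
    apply le_antisymm
    · intro x hx
      obtain ⟨l, rfl⟩ := QuotientGroup.mk'_surjective Z x
      have e : q (l * τ * l⁻¹) = q τ := by
        rw [map_mul, map_mul, map_inv]
        exact mul_inv_eq_iff_eq_mul.2 (Subgroup.mem_centralizer_singleton_iff.1 hx)
      have hl := congrArg Subtype.val (hfix l e)
      rw [hτ] at hl
      obtain ⟨w, hw, x, hx, hlx⟩ := h.decomp_L F l.2 (mul_inv_eq_iff_eq_mul.1 hl)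
      obtain ⟨a, rfl⟩ := F.exists_el hw
      refine ⟨a, QuotientGroup.eq.2 ((hZ _).2 ?_)⟩
      show (F.el a)⁻¹ * (l : G) ∈ _
      rw [hlx, inv_mul_cancel_left]
      exact hx.1
    · rintro _ ⟨a, rfl⟩
      rw [Subgroup.mem_centralizer_singleton_iff, ← hφτ, ← map_mul, ← map_mul, z0_central]
  have hcardC : Nat.card (Subgroup.centralizer ({q τ} : Set (F.L ⧸ Z))) = 120 := by
    rw [hCC, ← Nat.card_congr (MonoidHom.ofInjective hφinj).toEquiv, Nat.card_prod,
      nat_card_alternatingGroup, Nat.card_fin]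
    simp [Nat.factorial]
  -- the class of the image of `t` has odd size
  have hclass : Nat.card {y : F.L ⧸ Z // IsConj (q τ) y} % 2 = 1 := by
    rw [← h.class_odd F]
    refine congrArg (fun n => n % 2) (Nat.card_eq_of_bijective
      (fun x : {x : G | ∃ l ∈ F.L, l * t * l⁻¹ = x} => (⟨q ⟨x.1, by
          obtain ⟨l, hl, e⟩ := x.2
          rw [← e]; exact mul_mem (mul_mem hl htL) (inv_mem hl)⟩, by
          obtain ⟨l, hl, e⟩ := x.2
          refine isConj_iff.2 ⟨q ⟨l, hl⟩, ?_⟩
          rw [← map_inv, ← map_mul, ← map_mul]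
          exact congrArg q (Subtype.ext (by rw [hτ]; exact e))⟩ : {y : F.L ⧸ Z // IsConj (q τ) y}))
      ⟨fun x y hxy => ?_, fun y => ?_⟩).symm
    · obtain ⟨x, l, hl, rfl⟩ := x
      obtain ⟨y, k, hk, rfl⟩ := y
      obtain ⟨l', hl'⟩ : ∃ l' : F.L, l' = ⟨l, hl⟩ := ⟨_, rfl⟩
      obtain ⟨k', hk'⟩ : ∃ k' : F.L, k' = ⟨k, hk⟩ := ⟨_, rfl⟩
      have e : q (l' * τ * l'⁻¹) = q (k' * τ * k'⁻¹) := by
        refine (congrArg q (Subtype.ext ?_)).trans ((congrArg Subtype.val hxy).trans
          (congrArg q (Subtype.ext ?_)))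
        · rw [hl', hτ]; rfl
        · rw [hk', hτ]; rfl
      have e2 : k'⁻¹ * l' * τ * (k'⁻¹ * l')⁻¹ = τ := hfix _ (by
        rw [show k'⁻¹ * l' * τ * (k'⁻¹ * l')⁻¹ = k'⁻¹ * (l' * τ * l'⁻¹) * k' by group, map_mul,
          map_mul, e, ← map_mul, ← map_mul]
        exact congrArg q (by group))
      have e3 : l' * τ * l'⁻¹ = k' * τ * k'⁻¹ := by
        conv_rhs => rw [← e2]
        group
      rw [hl', hk', hτ] at e3
      have e4 := congrArg Subtype.val e3
      exact Subtype.ext e4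
    · obtain ⟨y, hy⟩ := y
      obtain ⟨g, rfl⟩ := isConj_iff.1 hy
      obtain ⟨l, rfl⟩ := QuotientGroup.mk'_surjective Z g
      refine ⟨⟨(l : G) * t * (l : G)⁻¹, l, l.2, rfl⟩, Subtype.ext ?_⟩
      show q _ = q l * q τ * (q l)⁻¹
      rw [← map_inv, ← map_mul, ← map_mul]
      exact congrArg q (Subtype.ext (by rw [hτ]; rfl))
  let EQ : Subgroup (F.L ⧸ Z) := (F.E.subgroupOf F.L).map q
  have hEQ : EQ = (F.E.comap F.el).map φ := by
    ext x
    constructor
    · rintro ⟨⟨l, hl⟩, hle, rfl⟩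
      obtain ⟨a, ha, e⟩ := (Subgroup.mem_subgroupOf.1 hle : l ∈ F.E)
      exact ⟨a, F.el_mem_E ha, congrArg q (Subtype.ext e)⟩
    · rintro ⟨a, ha, rfl⟩
      exact ⟨⟨F.el a, F.wk_t_le_L h (F.el_mem a)⟩, ha, rfl⟩
  have hEQcard : Nat.card EQ = 8 := by
    rw [hEQ, Subgroup.card_map_of_injective hφinj, ← F.card_E]
    refine Nat.card_congr ⟨fun a => ⟨F.el a.1, a.2⟩, fun x => ⟨F.e ⟨x.1, F.E_le x.2⟩, ?_⟩,
      fun a => ?_, fun x => ?_⟩
    · show ((F.e.symm (F.e ⟨x.1, F.E_le x.2⟩) : wk t) : G) ∈ F.E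
      rw [F.e.symm_apply_apply]
      exact x.2
    · exact Subtype.ext (F.e.apply_symm_apply a.1)
    · have e1 := congrArg Subtype.val (F.e.symm_apply_apply ⟨x.1, F.E_le x.2⟩)
      exact Subtype.ext e1
  have hQ : Nat.card (F.L ⧸ Z) = Nat.card {y : F.L ⧸ Z // IsConj (q τ) y} * 120 := by
    rw [← hcardC]
    exact (CfsgLib.Characters.card_isConj_mul_card_centralizer _).symm
  have hfac : (Nat.card (F.L ⧸ Z)).factorization 2 = 3 := by
    have hpos : Nat.card (F.L ⧸ Z) ≠ 0 := Nat.card_pos.ne'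
    have h1 := (Nat.Prime.pow_dvd_iff_le_factorization Nat.prime_two hpos (k := 3)).1
      (by rw [hQ]; exact dvd_mul_of_dvd_right (by norm_num) _)
    have h2 : ¬ 4 ≤ (Nat.card (F.L ⧸ Z)).factorization 2 := fun hh => by
      have := (Nat.Prime.pow_dvd_iff_le_factorization Nat.prime_two hpos (k := 4)).2 hh
      rw [hQ] at this
      obtain ⟨k, hk⟩ := this
      omega
    omega
  let P : Sylow 2 (F.L ⧸ Z) := Sylow.ofCard EQ (by rw [hEQcard, hfac]; norm_num)
  have hEQcomm : ∀ x ∈ EQ, ∀ y ∈ EQ, x * y = y * x := by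
    rintro _ ⟨a, ha, rfl⟩ _ ⟨b, hb, rfl⟩
    rw [← map_mul, ← map_mul]
    exact congrArg q (Subtype.ext (F.E_comm ha hb))
  have htc : Cfsg.IsTwoCentralInvolution (q τ) := by
    refine ⟨hqτ, P, ⟨τ, ?_, rfl⟩, fun x hx => hEQcomm x hx _ ⟨τ, ?_, rfl⟩⟩ <;>
      (rw [hτ]; exact F.t_mem_E)
  have hperf : commutator (F.L ⧸ Z) = ⊤ := by
    have hL : commutator F.L = ⊤ := by
      apply Subgroup.map_injective F.L.subtype_injective
      rw [commutator_def, Subgroup.map_commutator, ← MonoidHom.range_eq_map, Subgroup.range_subtype,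
        h.commutator_L F]
    rw [commutator_def, eq_top_iff, ← Subgroup.map_top_of_surjective q (QuotientGroup.mk'_surjective Z),
      ← Subgroup.map_commutator, ← commutator_def, hL]
  haveI : Nontrivial (F.L ⧸ Z) := ⟨⟨q τ, 1, fun e => by rw [e, orderOf_one] at hqτ; omega⟩⟩
  have hns : ¬ Group.IsSolvable (F.L ⧸ Z) := fun hs => by
    have := hs
    have hlt := Group.IsSolvable.commutator_lt_top_of_nontrivial (F.L ⧸ Z)
    exact hlt.ne hperf
  have h2 : ∀ N : Subgroup (F.L ⧸ Z), N.Normal → N.index ≠ 2 := fun N hN hi => by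
    haveI := hN
    have hle : commutator (F.L ⧸ Z) ≤ N := by
      refine Subgroup.commutator_le.2 fun a _ b _ => ?_
      have hab : (QuotientGroup.mk' N) ⁅a, b⁆ = 1 := by
        rw [map_commutatorElement, commutatorElement_eq_one_iff_mul_comm]
        haveI : Fact (Nat.Prime 2) := ⟨Nat.prime_two⟩
        haveI : IsCyclic ((F.L ⧸ Z) ⧸ N) := isCyclic_of_prime_card (p := 2) (by
          rw [← Subgroup.index_eq_card]; exact hi)
        exact IsMulCommutative.is_comm.comm _ _
      exact (QuotientGroup.eq_one_iff _).1 hab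
    rw [hperf, top_le_iff] at hle
    rw [hle, Subgroup.index_top] at hi
    omega
  let T : Subgroup (F.L ⧸ Z) := (φ.comp (MonoidHom.inr (Multiplicative (ZMod 2)) _)).range
  have hTinj : Function.Injective (φ.comp (MonoidHom.inr (Multiplicative (ZMod 2))
      (alternatingGroup (Fin 5)))) := fun a b e => congrArg Prod.snd (hφinj e)
  have hd : Cfsg.IsInternalDirectProduct (Subgroup.zpowers (q τ)) T
      (Subgroup.centralizer ({q τ} : Set (F.L ⧸ Z))) := by
    refine ⟨Subgroup.zpowers_le.2 (Subgroup.mem_centralizer_singleton_iff.2 rfl), ?_, ?_, ?_, ?_⟩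
    · rintro _ ⟨a, rfl⟩; rw [hCC]; exact ⟨_, rfl⟩
    · rintro _ ⟨n, rfl⟩ _ ⟨a, rfl⟩
      show (q τ) ^ n * φ ((1, a) : Mdl) = φ ((1, a) : Mdl) * (q τ) ^ n
      rw [← hφτ, ← map_zpow, ← map_mul, ← map_mul]
      exact congrArg φ (((Commute.zpow_right (z0_central _) n)).symm.eq)
    · rw [Subgroup.eq_bot_iff_forall]
      rintro _ ⟨⟨n, rfl⟩, a, ha⟩
      change φ ((1, a) : Mdl) = (q τ) ^ n at ha
      show (q τ) ^ n = 1
      rw [← hφτ, ← map_zpow] at ha
      have e := congrArg Prod.snd (hφinj ha)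
      have e0 : (z0 ^ n : Mdl).2 = 1 := by
        show (1 : alternatingGroup (Fin 5)) ^ n = 1
        exact one_zpow n
      rw [e0] at e
      change a = 1 at e
      rw [e, Prod.mk_one_one, map_one] at ha
      rw [← hφτ, ← map_zpow, ← ha]
    · rw [hCC]
      refine le_antisymm (sup_le (Subgroup.zpowers_le.2 ⟨z0, hφτ⟩) (by rintro _ ⟨a, rfl⟩; exact ⟨_, rfl⟩)) ?_
      rintro _ ⟨⟨w, a⟩, rfl⟩
      rw [show ((w, a) : Mdl) = (w, 1) * (1, a) by simp, map_mul]
      refine mul_mem (Subgroup.mem_sup_left ?_) (Subgroup.mem_sup_right ⟨a, rfl⟩)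
      rcases fst_cases w with e | e
      · rw [e]; exact (map_one φ).symm ▸ one_mem _
      · rw [e, hφτ]; exact Subgroup.mem_zpowers _
  rcases CfsgLib.TwoTimesAlt.main ⟨htc, hd⟩ h2 hns (MonoidHom.ofInjective hTinj).symm with
    ⟨h4, -⟩ | ⟨-, hsimple, -⟩
  · exact absurd h4 (by norm_num)
  haveI := hsimple
  have hJ := hrec (F.L ⧸ Z) P ⟨⟨fun a b => Subtype.ext (hEQcomm a a.2 b b.2)⟩⟩ hEQcard (q τ) hqτ
    ((MulEquiv.subgroupCongr hCC).trans (MonoidHom.ofInjective hφinj).symm)
  have hQcard : Nat.card (F.L ⧸ Z) = 175560 := by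
    obtain ⟨e⟩ := hJ
    rw [Nat.card_congr e.toEquiv]
    exact CfsgLib.Sporadic.J1.card_J1
  -- the Sylow subgroups are commutative, so transfer kills the centre
  have hcenter : Z = ⊥ := by
    rw [Subgroup.eq_bot_iff_forall]
    intro z hz
    by_contra hz1
    obtain ⟨p, hp, hpd⟩ := Nat.exists_prime_and_dvd (fun e => hz1 (orderOf_eq_one_iff.1 e))
    haveI := Fact.mk hp
    obtain ⟨w, hw⟩ : ∃ w, w = z ^ (orderOf z / p) := ⟨_, rfl⟩
    have hwo : orderOf w = p := by
      rw [hw, orderOf_pow_of_dvd (Nat.ne_of_gt (Nat.div_pos (Nat.le_of_dvd (orderOf_pos z) hpd) hp.pos))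
        (Nat.div_dvd_of_dvd hpd), Nat.div_div_self hpd (orderOf_pos z).ne']
    have hwZ : w ∈ Z := hw ▸ pow_mem hz _
    obtain ⟨R, hR⟩ := (IsPGroup.of_card (p := p) (n := 1) (G := Subgroup.zpowers w)
      (by rw [Nat.card_zpowers, hwo, pow_one])).exists_le_sylow
    obtain ⟨S, hS⟩ := (R.2.map q).exists_le_sylow
    -- elements of the Sylow subgroup are commuting elements times central ones
    obtain ⟨A, hA, hRA⟩ : ∃ A : Set F.L, (∀ a ∈ A, ∀ b ∈ A, a * b = b * a) ∧
        ∀ r ∈ (R : Subgroup F.L), ∃ a ∈ A, ∃ c ∈ Z, r = a * c := by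
      have key : ∀ r ∈ (R : Subgroup F.L), ∀ a : F.L, q a = q r → ∃ c ∈ Z, r = a * c :=
        fun r _ a e => ⟨a⁻¹ * r, QuotientGroup.eq.1 e, (mul_inv_cancel_left a r).symm⟩
      by_cases hp2 : p = 2
      · subst hp2
        obtain ⟨g, hg⟩ := MulAction.exists_smul_eq (F.L ⧸ Z) S P
        obtain ⟨l, rfl⟩ := QuotientGroup.mk'_surjective Z g
        refine ⟨{a | l * a * l⁻¹ ∈ F.E.subgroupOf F.L}, fun a ha b hb => ?_, fun r hr => ?_⟩
        · have := F.E_comm ha hb
          have e : l * a * l⁻¹ * (l * b * l⁻¹) = l * b * l⁻¹ * (l * a * l⁻¹) := Subtype.ext this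
          rw [show l * a * l⁻¹ * (l * b * l⁻¹) = l * (a * b) * l⁻¹ by group,
            show l * b * l⁻¹ * (l * a * l⁻¹) = l * (b * a) * l⁻¹ by group] at e
          exact mul_left_cancel (mul_right_cancel e)
        · have hm : MulAut.conj (q l) • q r ∈ (P : Subgroup (F.L ⧸ Z)) := by
            rw [← hg]
            exact Subgroup.smul_mem_pointwise_smul _ (MulAut.conj (q l)) _
              (hS ⟨r, hr, rfl⟩)
          obtain ⟨b, hb, hbe⟩ := hm
          refine ⟨l⁻¹ * b * l, by simpa [mul_assoc] using hb, key r hr _ ?_⟩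
          rw [map_mul, map_mul, map_inv, hbe]
          show (q l)⁻¹ * (q l * q r * (q l)⁻¹) * q l = q r
          group
      · haveI : IsCyclic (S : Subgroup (F.L ⧸ Z)) := by
          obtain ⟨k, hk⟩ := S.2.exists_card_eq
          have hk1 : k ≤ 1 := by
            by_contra hk1
            have h1 : p ^ 2 ∣ 175560 := by
              rw [← hQcard]
              exact (pow_dvd_pow p (show 2 ≤ k by omega)).trans
                (by rw [← hk]; exact Subgroup.card_subgroup_dvd_card _)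
            have hb : p < 420 := by
              by_contra hb
              have := Nat.le_of_dvd (by norm_num) h1
              nlinarith
            have hdec : ∀ n < 420, n * n ∣ 175560 → n = 1 ∨ n = 2 := by decide +kernel
            rcases hdec p hb (by rwa [← pow_two]) with e | e
            · exact hp.ne_one e
            · exact hp2 e
          interval_cases k
          · haveI : Subsingleton (S : Subgroup (F.L ⧸ Z)) :=
              (Nat.card_eq_one_iff_unique.1 (by rw [hk, pow_zero])).1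
            infer_instance
          · exact isCyclic_of_prime_card (p := p) (by rw [hk, pow_one])
        obtain ⟨⟨s, hs⟩, hgen⟩ := IsCyclic.exists_generator (α := (S : Subgroup (F.L ⧸ Z)))
        obtain ⟨s', rfl⟩ := QuotientGroup.mk'_surjective Z s
        refine ⟨Subgroup.zpowers s', fun a ha b hb => ?_, fun r hr => ?_⟩
        · obtain ⟨i, rfl⟩ := ha; obtain ⟨j, rfl⟩ := hb
          show s' ^ i * s' ^ j = s' ^ j * s' ^ i
          rw [← zpow_add, ← zpow_add, add_comm]
        · obtain ⟨i, hi⟩ := hgen ⟨q r, hS ⟨r, hr, rfl⟩⟩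
          refine ⟨s' ^ i, ⟨i, rfl⟩, key r hr _ ?_⟩
          rw [map_zpow]
          exact congrArg Subtype.val hi
    have hRcomm : IsMulCommutative (R : Subgroup F.L) := ⟨⟨fun x y => Subtype.ext (by
      obtain ⟨a, ha, c, hc, hx⟩ := hRA x x.2
      obtain ⟨b, hb, d, hd', hy⟩ := hRA y y.2
      show (x : F.L) * y = y * x
      have hcc := Subgroup.mem_center_iff.1 hc
      have hdc := Subgroup.mem_center_iff.1 hd'
      rw [hx, hy, mul_assoc a c, ← mul_assoc c b, ← hcc b, mul_assoc b c, ← mul_assoc a b,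
        hA a ha b hb, mul_assoc b a, mul_assoc b d, ← mul_assoc d a, ← hdc a, mul_assoc a d,
        hdc c])⟩⟩
    have hd : w ∈ commutator F.L := by
      have hL : commutator F.L = ⊤ := by
        apply Subgroup.map_injective F.L.subtype_injective
        rw [commutator_def, Subgroup.map_commutator, ← MonoidHom.range_eq_map,
          Subgroup.range_subtype, h.commutator_L F]
      rw [hL]; exact Subgroup.mem_top _
    have hw1 := CfsgLib.Transfer.eq_one_of_central_commutator (R : Subgroup F.L) hRcomm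
      R.card_coprime_index (hR (Subgroup.mem_zpowers w)) hd hwZ
    rw [hw1, orderOf_one] at hwo
    exact hp.ne_one hwo.symm
  refine ⟨?_, ?_⟩
  · obtain ⟨e⟩ := hJ
    exact ⟨(QuotientGroup.quotientBot (G := F.L)).symm.trans
      ((QuotientGroup.quotientMulEquivOfEq hcenter).symm.trans e)⟩
  · rw [Subgroup.eq_bot_iff_forall]
    rintro x ⟨hxL, hxC⟩
    have : (⟨x, hxL⟩ : F.L) ∈ Z := (hZ _).2 hxC
    rw [hcenter, Subgroup.mem_bot] at this
    exact congrArg Subtype.val this

end CfsgLib.WeakJanko
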