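import Mathlib

/-!
The group `Z₂ × Alt(5)`: the facts used for the recognition of `J₁` from the weak closure of an involution
in its centralizer.
-/

set_option autoImplicit false
set_option maxRecDepth 100000
set_option synthInstance.maxSize 4000
set_option synthInstance.maxHeartbeats 400000
set_option linter.style.haveILetI false

namespace CfsgLib.WeakJanko

/-- The model `Z₂ × Alt(5)`. -/
abbrev Mdl := Multiplicative (ZMod 2) × alternatingGroup (Fin 5)

/-- The central involution. -/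
def z0 : Mdl := (Multiplicative.ofAdd 1, 1)

/-- `(01)(23)`. -/
def a0 : Mdl := (1, ⟨Equiv.swap 0 1 * Equiv.swap 2 3, Equiv.Perm.mem_alternatingGroup.2 (by decide)⟩)

/-- `(02)(13)`. -/
def b0 : Mdl := (1, ⟨Equiv.swap 0 2 * Equiv.swap 1 3, Equiv.Perm.mem_alternatingGroup.2 (by decide)⟩)

/-- `(01)(24)`. -/
def c0 : Mdl := (1, ⟨Equiv.swap 0 1 * Equiv.swap 2 4, Equiv.Perm.mem_alternatingGroup.2 (by decide)⟩)

/-- A `3`-cycle normalizing the four-group. -/
def y0 : Mdl := (1, ⟨Equiv.swap 0 1 * Equiv.swap 1 2, Equiv.Perm.mem_alternatingGroup.2 (by decide)⟩)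

theorem z0_ne : z0 ≠ 1 := by decide

theorem z0_sq : z0 * z0 = 1 := by decide

theorem z0_central : ∀ x : Mdl, x * z0 = z0 * x := by decide +kernel

theorem center_eq : ∀ x : Mdl, x * a0 = a0 * x → x * c0 = c0 * x → x * y0 = y0 * x →
    x = 1 ∨ x = z0 := by
  decide +kernel

theorem y0_data : y0 * y0 * y0 = 1 ∧ y0 * a0 * y0⁻¹ ≠ a0 ∧
    (y0 * a0 * y0⁻¹ = b0 ∨ y0 * a0 * y0⁻¹ = a0 * b0) := by
  decide

/-- Membership in the Sylow `2`-subgroup `⟨z0⟩ × ⟨a0, b0⟩`. -/
def InE (x : Mdl) : Prop := x * a0 = a0 * x ∧ x * b0 = b0 * x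

instance : DecidablePred InE := fun x => by unfold InE; infer_instance

theorem inE_iff : ∀ x : Mdl, InE x ↔ x = 1 ∨ x = a0 ∨ x = b0 ∨ x = a0 * b0 ∨
    x = z0 ∨ x = z0 * a0 ∨ x = z0 * b0 ∨ x = z0 * (a0 * b0) := by
  decide +kernel

theorem inE_card : (Finset.univ.filter InE).card = 8 := by decide +kernel

theorem inE_sq : ∀ x : Mdl, InE x → x * x = 1 := by decide +kernel

theorem inE_mul : ∀ x y : Mdl, InE x → InE y → InE (x * y) ∧ x * y = y * x := by decide +kernel

theorem inE_y0 : ∀ x : Mdl, InE x ↔ InE (y0 * x * y0⁻¹) := by decide +kernel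

theorem inE_fix_y0 : ∀ x : Mdl, InE x → y0 * x * y0⁻¹ = x → x = 1 ∨ x = z0 := by decide +kernel

theorem conj_into_E : ∀ x : Mdl, x * x = 1 → ∃ g : Mdl, InE (g * x * g⁻¹) := by decide +kernel

theorem pow_two_of_four : ∀ x : Mdl, x * x * (x * x) = 1 → x * x = 1 := by decide +kernel

/-- An automorphism fixing the four-group pointwise moves `c0` as conjugation by the four-group does. -/
theorem rigid : ∀ c : alternatingGroup (Fin 5),
    c * c = 1 →
    (∀ k : Fin 6, (a0.2 * c) ^ (k : ℕ) = 1 ↔ (a0.2 * c0.2) ^ (k : ℕ) = 1) →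
    (∀ k : Fin 6, (b0.2 * c) ^ (k : ℕ) = 1 ↔ (b0.2 * c0.2) ^ (k : ℕ) = 1) →
    (∀ k : Fin 6, (a0.2 * b0.2 * c) ^ (k : ℕ) = 1 ↔ (a0.2 * b0.2 * c0.2) ^ (k : ℕ) = 1) →
    c = c0.2 ∨ c = a0.2 * c0.2 * a0.2⁻¹ ∨ c = b0.2 * c0.2 * b0.2⁻¹ ∨
      c = a0.2 * b0.2 * c0.2 * (a0.2 * b0.2)⁻¹ := by
  decide +kernel

theorem closure_gen : Subgroup.closure ({a0.2, b0.2, c0.2} : Set (alternatingGroup (Fin 5))) = ⊤ := by
  set H := Subgroup.closure ({a0.2, b0.2, c0.2} : Set (alternatingGroup (Fin 5))) with hH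
  have hfour : ({1, a0.2, b0.2, a0.2 * b0.2} : Finset (alternatingGroup (Fin 5))).card = 4 := by
    decide +kernel
  have ha : a0.2 ∈ H := Subgroup.subset_closure (by simp)
  have hb : b0.2 ∈ H := Subgroup.subset_closure (by simp)
  have hc : c0.2 ∈ H := Subgroup.subset_closure (by simp)
  -- `H` contains elements of orders `3` and `5` and a four-group
  have h3 : 3 ∣ Nat.card H := by
    have e : orderOf (a0.2 * c0.2) = 3 := by
      haveI : Fact (Nat.Prime 3) := ⟨Nat.prime_three⟩
      exact orderOf_eq_prime (by decide +kernel) (by decide +kernel)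
    rw [← e]
    exact H.orderOf_dvd_natCard (mul_mem ha hc)
  have h5 : 5 ∣ Nat.card H := by
    have e : orderOf (b0.2 * c0.2) = 5 := by
      haveI : Fact (Nat.Prime 5) := ⟨by norm_num⟩
      exact orderOf_eq_prime (by decide +kernel) (by decide +kernel)
    have := H.orderOf_dvd_natCard (mul_mem hb hc)
    rwa [e] at this
  have h4 : 4 ∣ Nat.card H := by
    let V : Subgroup (alternatingGroup (Fin 5)) :=
      { carrier := {x | x ∈ ({1, a0.2, b0.2, a0.2 * b0.2} : Finset (alternatingGroup (Fin 5)))}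
        one_mem' := by simp
        mul_mem' := by decide +kernel
        inv_mem' := by decide +kernel }
    have hle : V ≤ H := by
      intro x hx
      change x ∈ ({1, a0.2, b0.2, a0.2 * b0.2} : Finset (alternatingGroup (Fin 5))) at hx
      simp only [Finset.mem_insert, Finset.mem_singleton] at hx
      rcases hx with rfl | rfl | rfl | rfl
      exacts [H.one_mem, ha, hb, mul_mem ha hb]
    have hcard : Nat.card V = 4 := by
      rw [← hfour]
      show Nat.card {x // x ∈ ({1, a0.2, b0.2, a0.2 * b0.2} : Finset (alternatingGroup (Fin 5)))} = _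
      exact Nat.card_eq_finsetCard _
    exact hcard ▸ Subgroup.card_dvd_of_le hle
  refine Subgroup.eq_top_of_le_card _ ?_
  rw [nat_card_alternatingGroup, Nat.card_fin]
  have h := Nat.Coprime.mul_dvd_of_dvd_of_dvd (by norm_num) (Nat.Coprime.mul_dvd_of_dvd_of_dvd
    (by norm_num : Nat.Coprime 4 3) h4 h3) h5
  exact (show Nat.factorial 5 / 2 ≤ 4 * 3 * 5 by decide).trans (Nat.le_of_dvd Nat.card_pos h)

theorem mdl_closure : Subgroup.closure ({z0, a0, b0, c0} : Set Mdl) = ⊤ := by
  rw [eq_top_iff]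
  rintro ⟨u, v⟩ -
  have hu : ∀ w : Multiplicative (ZMod 2), (w, (1 : alternatingGroup (Fin 5))) ∈
      Subgroup.closure ({z0, a0, b0, c0} : Set Mdl) := by
    intro w
    have : w = 1 ∨ w = Multiplicative.ofAdd 1 := by revert w; decide
    rcases this with rfl | rfl
    · exact one_mem _
    · exact Subgroup.subset_closure (Set.mem_insert _ _)
  have hv : Subgroup.closure ({a0.2, b0.2, c0.2} : Set (alternatingGroup (Fin 5))) ≤
      (Subgroup.closure ({z0, a0, b0, c0} : Set Mdl)).comap (MonoidHom.inr _ _) := by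
    rw [Subgroup.closure_le]
    intro x hx
    simp only [Set.mem_insert_iff, Set.mem_singleton_iff] at hx
    rcases hx with rfl | rfl | rfl <;> exact Subgroup.subset_closure (by simp [a0, b0, c0])
  have h := mul_mem (hu u) (hv (closure_gen ▸ Subgroup.mem_top v))
  simpa using h

end CfsgLib.WeakJanko
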