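import Cfsg.Agent.Lib.Recognition.WeakJanko.Split

/-!
The join `L` of the weak closures, its normalizer `L · C(L)`, and the involution classes there.
-/

set_option autoImplicit false
set_option linter.style.haveILetI false

namespace CfsgLib.WeakJanko

open scoped commutatorElement

theorem a0_b0_commutator : (∃ p q : Mdl, ⁅p, q⁆ = a0) ∧ ∃ p q : Mdl, ⁅p, q⁆ = b0 := by
  constructor
  · obtain ⟨p, q, -, -, h⟩ := v0_commutator a0 ((inE_iff _).2 (by simp)) rfl
    exact ⟨p, q, by rw [commutatorElement_def, h]⟩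
  · obtain ⟨p, q, -, -, h⟩ := v0_commutator b0 ((inE_iff _).2 (by simp)) rfl
    exact ⟨p, q, by rw [commutatorElement_def, h]⟩

variable {G : Type*} [Group G] [Finite G] {t : G} (h : Weak t) (F : Frame t)

omit [Finite G] in
theorem Frame.E_ne (F : Frame t) : F.el a0 ∈ F.E ∧ F.el a0 ≠ 1 ∧ F.el a0 ≠ t := by
  refine ⟨F.el_mem_E ((inE_iff _).2 (by simp)), F.el_ne_one (by decide +kernel), fun e => ?_⟩
  exact absurd (F.el_injective (e.trans F.el_z0.symm)) (by decide +kernel : a0 ≠ z0)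

omit [Finite G] in
theorem Frame.wk_t_le_L (h : Weak t) : wk t ≤ F.L :=
  F.wk_le_L F.t_mem_E fun e => by
    have := h.ht
    rw [e, orderOf_one] at this
    omega

include h

/-- `C(t) = wk t · C(L)`. -/
theorem Weak.decomp {g : G} (hg : g * t = t * g) :
    ∃ w ∈ wk t, ∃ x ∈ Subgroup.centralizer (F.L : Set G), g = w * x := by
  obtain ⟨w, hw, hwE⟩ := h.centralizer_t F hg
  obtain ⟨e, he, hex⟩ := (h.split F).2 (w * g) hwE
  refine ⟨w⁻¹ * e⁻¹, mul_mem (inv_mem hw) (inv_mem (F.E_le he)), _, hex, ?_⟩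
  group

theorem Weak.centralizer_le_normalizer {s g : G} (hs : s ∈ F.E) (hs1 : s ≠ 1) (hg : g * s = s * g) :
    g ∈ Subgroup.normalizer (F.L : Set G) := by
  obtain ⟨F', hF'⟩ := h.exists_frame F hs hs1
  have hL : F'.L = F.L := by simp [Frame.L, hF']
  obtain ⟨w, hw, x, hx, rfl⟩ := (weak_conj h (h.isConj_E F hs hs1)).decomp F' hg
  rw [hL] at hx
  exact mul_mem (Subgroup.le_normalizer (F.wk_le_L hs hs1 hw))
    (Subgroup.centralizer_le_normalizer _ hx)

/-- A finite set of conjugates of `t` stable under `E` and containing the involutions of `E` is odd. -/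
theorem Weak.odd_of_stable (K : Set G) (hK : ∀ x ∈ K, IsConj t x)
    (hE : ∀ e ∈ F.E, ∀ x ∈ K, e * x * e⁻¹ ∈ K) (hmem : ∀ s ∈ F.E, s ≠ 1 → s ∈ K) :
    Nat.card K % 2 = 1 := by
  haveI : Fact (Nat.Prime 2) := ⟨Nat.prime_two⟩
  letI act : MulAction F.E K :=
    { smul := fun e x => ⟨(e : G) * x.1 * (e : G)⁻¹, hE e e.2 x.1 x.2⟩
      one_smul := fun x => Subtype.ext (by simp [HSMul.hSMul, SMul.smul])
      mul_smul := fun a b x => Subtype.ext (by simp [HSMul.hSMul, SMul.smul, mul_assoc]) }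
  have hp : IsPGroup 2 F.E := IsPGroup.of_card (n := 3) (by rw [F.card_E]; norm_num)
  have hmod := hp.card_modEq_card_fixedPoints (α := K)
  have h7 : Nat.card (MulAction.fixedPoints F.E K) = 7 := by
    have h7' : ((F.E : Set G) \ {1}).ncard = 7 := by
      rw [Set.ncard_sdiff_singleton_of_mem (one_mem _), ← Nat.card_coe_set_eq, SetLike.coe_sort_coe,
        F.card_E]
    rw [← h7', ← Nat.card_coe_set_eq]
    refine Nat.card_eq_of_bijective (fun x => ⟨x.1.1, ?_⟩) ⟨fun a b hab => ?_, fun y => ?_⟩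
    · obtain ⟨⟨x, hxK⟩, hx⟩ := x
      have hxc : ∀ e ∈ F.E, e * x = x * e := fun e he =>
        mul_inv_eq_iff_eq_mul.1 (congrArg Subtype.val (hx ⟨e, he⟩))
      obtain ⟨a, rfl⟩ := F.exists_el (mem_wk (hK x hxK) (hxc t F.t_mem_E).symm)
      have ha : ∀ b, InE b → a * b = b * a := fun b hb => F.el_injective (by
        rw [map_mul, map_mul, hxc _ (F.el_mem_E hb)])
      refine ⟨F.el_mem_E ⟨ha _ ((inE_iff _).2 (by simp)), ha _ ((inE_iff _).2 (by simp))⟩, ?_⟩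
      intro e
      obtain ⟨g, hg⟩ := isConj_iff.1 (hK _ hxK)
      rw [show F.el a = 1 from e] at hg
      have := h.ht
      rw [conj_eq_one_iff.1 hg, orderOf_one] at this
      omega
    · exact Subtype.ext (Subtype.ext (congrArg Subtype.val hab :))
    · obtain ⟨y, hy, hy1⟩ := y
      refine ⟨⟨⟨y, hmem y hy (fun e => hy1 (Set.mem_singleton_iff.2 e))⟩, fun e => Subtype.ext ?_⟩, rfl⟩
      show (e : G) * y * (e : G)⁻¹ = y
      rw [F.E_comm e.2 hy, mul_inv_cancel_right]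
  rw [Nat.ModEq] at hmod
  omega

/-- A permutation of order two of an odd set fixes a point. -/
theorem Weak.exists_commute (K : Set G) (hodd : Nat.card K % 2 = 1) {u : G} (hu : u * u = 1)
    (hst : ∀ x ∈ K, u * x * u⁻¹ ∈ K) : ∃ x ∈ K, u * x = x * u := by
  haveI : Fact (Nat.Prime 2) := ⟨Nat.prime_two⟩
  have _ := h
  let σ : Function.End K := fun x => ⟨u * x.1 * u⁻¹, hst x.1 x.2⟩
  have hσ : Function.Involutive σ := fun x => Subtype.ext (by
    show u * (u * x.1 * u⁻¹) * u⁻¹ = x.1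
    rw [show u * (u * x.1 * u⁻¹) * u⁻¹ = (u * u) * x.1 * (u * u)⁻¹ by group, hu]
    group)
  letI : Fintype K := Fintype.ofFinite _
  obtain ⟨x, hx⟩ := Equiv.Perm.exists_fixed_point_of_prime (p := 2) (n := 1) (σ := hσ.toPerm σ)
    (by rw [← Nat.card_eq_fintype_card]; omega)
    (Equiv.ext fun x => by rw [pow_one, pow_two]; exact hσ x)
  exact ⟨x.1, x.2, mul_inv_eq_iff_eq_mul.1 (congrArg Subtype.val hx)⟩

theorem Weak.mul_self_conj {x : G} (hx : IsConj t x) : x * x = 1 ∧ x ≠ 1 := by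
  refine ⟨mul_self_of_order_two (weak_conj h hx).ht, fun e => ?_⟩
  have := (weak_conj h hx).ht
  rw [e, orderOf_one] at this
  omega

/-- A conjugate of `t` commuting with an `L`-conjugate of `t` is an `L`-conjugate of `t`. -/
theorem Weak.conj_of_commute {x u l : G} (hl : l ∈ F.L) (hx : x = l * t * l⁻¹) (hu : IsConj t u)
    (hc : u * x = x * u) : ∃ k ∈ F.L, k * t * k⁻¹ = u := by
  have hu' : IsConj t (l⁻¹ * u * l) := hu.trans (isConj_iff.2 ⟨l⁻¹, by group⟩)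
  obtain ⟨hu2, hu1⟩ := h.mul_self_conj hu'
  have hw : l⁻¹ * u * l ∈ wk t := mem_wk hu' (by
    rw [hx] at hc
    rw [show l⁻¹ * u * l * t = l⁻¹ * (u * (l * t * l⁻¹)) * l by group, hc]
    group)
  obtain ⟨w, hwW, hwE⟩ := F.exists_conj_mem_E hw hu2
  obtain ⟨k, hk, hke⟩ := (h.split F).1 _ hwE (fun e => hu1 (conj_eq_one_iff.1 e))
  refine ⟨l * w⁻¹ * k, mul_mem (mul_mem hl (inv_mem (F.wk_t_le_L h hwW))) hk, ?_⟩
  rw [show l * w⁻¹ * k * t * (l * w⁻¹ * k)⁻¹ = l * w⁻¹ * (k * t * k⁻¹) * w * l⁻¹ by group, hke]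
  group

theorem Weak.class_odd : Nat.card {x : G | ∃ l ∈ F.L, l * t * l⁻¹ = x} % 2 = 1 := by
  refine h.odd_of_stable F _ (fun x ⟨l, _, e⟩ => isConj_iff.2 ⟨l, e⟩) ?_ (fun s hs hs1 => (h.split F).1 s hs hs1)
  rintro e he _ ⟨l, hl, rfl⟩
  exact ⟨e * l, mul_mem (F.wk_t_le_L h (F.E_le he)) hl, by group⟩

/-- Every conjugate of `t` normalizing `L` is an `L`-conjugate of `t`. -/
theorem Weak.conj_of_normalizer {u : G} (hu : IsConj t u)
    (hun : u ∈ Subgroup.normalizer (F.L : Set G)) : ∃ k ∈ F.L, k * t * k⁻¹ = u := by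
  obtain ⟨hu2, -⟩ := h.mul_self_conj hu
  have hinL : ∀ v, IsConj t v → v ∈ F.L → ∃ k ∈ F.L, k * t * k⁻¹ = v := by
    intro v hv hvL
    obtain ⟨x, ⟨l, hl, hx⟩, hc⟩ := h.exists_commute _ (h.class_odd F) (h.mul_self_conj hv).1
      (fun x ⟨l, hl, e⟩ => ⟨v * l, mul_mem hvL hl, by rw [← e]; group⟩)
    exact h.conj_of_commute F hl hx.symm hv hc
  obtain ⟨x, ⟨l, hl, hx⟩, hc⟩ := h.exists_commute _ (h.class_odd F) hu2 (fun x ⟨l, hl, e⟩ =>
    hinL _ ((isConj_iff.2 ⟨l, e⟩ : IsConj t x).trans (isConj_iff.2 ⟨u, rfl⟩))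
      ((Subgroup.mem_normalizer_iff.1 hun x).1 (e ▸ mul_mem (mul_mem hl (F.wk_t_le_L h (self_mem_wk t))) (inv_mem hl))))
  exact h.conj_of_commute F hl hx.symm hu hc

/-- `N(L) = L · C(L)`. -/
theorem Weak.normalizer_eq {g : G} (hg : g ∈ Subgroup.normalizer (F.L : Set G)) :
    ∃ l ∈ F.L, ∃ x ∈ Subgroup.centralizer (F.L : Set G), g = l * x := by
  obtain ⟨l, hl, hlg⟩ := h.conj_of_normalizer F (isConj_iff.2 ⟨g, rfl⟩ : IsConj t (g * t * g⁻¹))
    (mul_mem (mul_mem hg (Subgroup.le_normalizer (F.wk_t_le_L h (self_mem_wk t)))) (inv_mem hg))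
  obtain ⟨w, hw, x, hx, e⟩ := h.decomp F (g := l⁻¹ * g) (by
    rw [show l⁻¹ * g * t = l⁻¹ * (g * t * g⁻¹) * g by group, ← hlg]; group)
  refine ⟨l * w, mul_mem hl (F.wk_t_le_L h hw), x, hx, ?_⟩
  rw [mul_assoc, ← e]
  group

/-- The centralizer of `t` in `L`. -/
theorem Weak.decomp_L {g : G} (hgL : g ∈ F.L) (hg : g * t = t * g) :
    ∃ w ∈ wk t, ∃ x ∈ Subgroup.centralizer (F.L : Set G) ⊓ F.L, g = w * x := by
  obtain ⟨w, hw, x, hx, rfl⟩ := h.decomp F hg
  refine ⟨w, hw, x, ⟨hx, ?_⟩, rfl⟩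
  have := mul_mem (inv_mem (F.wk_t_le_L h hw)) hgL
  rwa [inv_mul_cancel_left] at this

/-- A conjugate of `t` is never `t` times an element centralizing `L`. -/
theorem Weak.eq_one_of_mul {x : G} (hx : x ∈ Subgroup.centralizer (F.L : Set G))
    (hc : IsConj t (t * x)) : x = 1 := by
  have hxt : x * t = t * x :=
    (Subgroup.mem_centralizer_iff.1 hx t (F.wk_t_le_L h (self_mem_wk t))).symm
  have hw : t * x ∈ wk t := mem_wk hc (by rw [mul_assoc, hxt])
  have hxw : x ∈ wk t := by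
    have := mul_mem (inv_mem (self_mem_wk t)) hw
    rwa [inv_mul_cancel_left] at this
  obtain ⟨a, rfl⟩ := F.exists_el hxw
  have hc' : ∀ y, a * y = y * a := fun y => F.el_injective (by
    rw [map_mul, map_mul, Subgroup.mem_centralizer_iff.1 hx _ (F.wk_t_le_L h (F.el_mem y))])
  rcases center_eq a (hc' _) (hc' _) (hc' _) with rfl | rfl
  · rw [map_one]
  · exfalso
    rw [F.el_z0, mul_self_of_order_two h.ht] at hc
    exact (h.mul_self_conj hc).2 rfl

/-- `L` is perfect. -/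
theorem Weak.commutator_L : ⁅F.L, F.L⁆ = F.L := by
  refine le_antisymm (Subgroup.commutator_le_self _) ?_
  have htL := F.wk_t_le_L h
  have hD : ∀ s (F' : Frame s), wk s ≤ F.L → ∀ a : Mdl, (∃ p q : Mdl, ⁅p, q⁆ = a) → F'.el a ∈ ⁅F.L, F.L⁆ := by
    rintro s F' hs a ⟨p, q, rfl⟩
    rw [map_commutatorElement]
    exact Subgroup.commutator_mem_commutator (hs (F'.el_mem p)) (hs (F'.el_mem q))
  -- `t` is a commutator product
  have htD : t ∈ ⁅F.L, F.L⁆ := by
    obtain ⟨ha, ha1, -⟩ := F.E_ne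
    obtain ⟨l, hl, hla⟩ := (h.split F).1 _ ha ha1
    have e : t = ⁅l⁻¹, F.el a0⁆ * F.el a0 := by
      rw [commutatorElement_def, ← hla]; group
    have hm := mul_mem (Subgroup.commutator_mem_commutator (inv_mem hl) (htL (F.el_mem a0)))
      (hD t F htL a0 a0_b0_commutator.1)
    exact e.symm.subst (motive := fun x => x ∈ ⁅F.L, F.L⁆) hm
  refine iSup₂_le fun s hs => ?_
  obtain ⟨F', hF'⟩ := h.exists_frame F hs.1 hs.2
  have hsD : s ∈ ⁅F.L, F.L⁆ := by
    obtain ⟨l, hl, rfl⟩ := (h.split F).1 s hs.1 hs.2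
    rw [show l * t * l⁻¹ = ⁅l, t⁆ * t by rw [commutatorElement_def]; group]
    exact mul_mem (Subgroup.commutator_mem_commutator hl (htL (self_mem_wk t))) htD
  have hle : Subgroup.closure ({z0, a0, b0, c0} : Set Mdl) ≤ (⁅F.L, F.L⁆).comap F'.el := by
    rw [Subgroup.closure_le]
    intro a ha
    simp only [Set.mem_insert_iff, Set.mem_singleton_iff] at ha
    rcases ha with rfl | rfl | rfl | rfl
    · show F'.el z0 ∈ ⁅F.L, F.L⁆; rw [F'.el_z0]; exact hsD
    · exact hD s F' (F.wk_le_L hs.1 hs.2) _ a0_b0_commutator.1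
    · exact hD s F' (F.wk_le_L hs.1 hs.2) _ a0_b0_commutator.2
    · exact hD s F' (F.wk_le_L hs.1 hs.2) _ c0_commutator
  rw [mdl_closure] at hle
  intro x hx
  obtain ⟨a, rfl⟩ := F'.exists_el hx
  exact hle (Subgroup.mem_top a)

end CfsgLib.WeakJanko
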