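import Cfsg.Agent.Lib.Recognition.WeakJanko.Basic
import Mathlib.GroupTheory.Subgroup.Centralizer
import Mathlib.GroupTheory.Perm.Cycle.Type

/-!
The centralizer of the standard elementary abelian subgroup splits over it: a complement centralizes all
the weak closures belonging to its involutions.
-/

set_option autoImplicit false
set_option linter.style.haveILetI false
set_option maxRecDepth 100000
set_option synthInstance.maxSize 4000
set_option synthInstance.maxHeartbeats 400000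

namespace CfsgLib.WeakJanko

open scoped commutatorElement

theorem fst_commutator (p q : Mdl) : (⁅p, q⁆).1 = 1 := by
  rw [commutatorElement_def]
  show p.1 * q.1 * p.1⁻¹ * q.1⁻¹ = 1
  rw [mul_comm p.1 q.1, mul_inv_cancel_right, mul_inv_cancel]

theorem inE_commutator : ∀ a : Mdl, InE a → a.1 = 1 → a = 1 ∨ a = a0 ∨ a = b0 ∨ a = a0 * b0 := by
  decide +kernel

theorem inE_fst : ∀ a : Mdl, InE a → a.1 ≠ 1 → (z0 * a).1 = 1 := by decide +kernel

theorem v0_commutator : ∀ a : Mdl, InE a → a.1 = 1 → ∃ p q : Mdl, InE p ∧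
    q ∈ ({1, y0, y0 * y0} : Finset Mdl) ∧ p * q * p⁻¹ * q⁻¹ = a := by
  decide +kernel

theorem y_norm : ∀ q ∈ ({1, y0, y0 * y0} : Finset Mdl), ∀ a : Mdl, InE a →
    InE (q * a * q⁻¹) ∧ InE (q⁻¹ * a * q) := by
  decide +kernel

theorem y_inj : ∀ a ∈ ({1, y0, y0 * y0} : Finset Mdl), ∀ b ∈ ({1, y0, y0 * y0} : Finset Mdl),
    a * a0 * a⁻¹ = b * a0 * b⁻¹ → a = b := by
  decide +kernel

theorem a0_a0_b0 : a0 * (a0 * b0) = b0 := by decide +kernel

theorem c0_commutator : ∃ p q : Mdl, ⁅p, q⁆ = c0 :=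
  ⟨(1, ⟨Equiv.swap 0 1 * Equiv.swap 1 2, Equiv.Perm.mem_alternatingGroup.2 (by decide)⟩),
    (1, ⟨Equiv.swap 0 1 * Equiv.swap 1 4, Equiv.Perm.mem_alternatingGroup.2 (by decide)⟩),
    by rw [commutatorElement_def]; decide +kernel⟩

variable {G : Type*} [Group G] {t : G}

/-- The elements of the weak closures of the involutions of `E` normalizing `E` lie here. -/
def Frame.ys (F : Frame t) : Set G :=
  {y | ∃ s ∈ F.E, s ≠ 1 ∧ y ∈ wk s ∧ ∀ x ∈ F.E, y * x * y⁻¹ ∈ F.E}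

/-- The join of the weak closures of the involutions of `E`. -/
def Frame.L (F : Frame t) : Subgroup G := ⨆ (s : G) (_ : s ∈ F.E ∧ s ≠ 1), wk s

theorem Frame.wk_le_L (F : Frame t) {s : G} (hs : s ∈ F.E) (hs1 : s ≠ 1) : wk s ≤ F.L :=
  le_iSup₂ (f := fun s (_ : s ∈ F.E ∧ s ≠ 1) => wk s) s ⟨hs, hs1⟩

theorem Frame.mem_centralizer_L_iff (F : Frame t) {h : G} :
    h ∈ Subgroup.centralizer (F.L : Set G) ↔
      ∀ s ∈ F.E, s ≠ 1 → h ∈ Subgroup.centralizer (wk s : Set G) := by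
  constructor
  · exact fun hh s hs hs1 => Subgroup.centralizer_le (F.wk_le_L hs hs1) hh
  · intro hh
    have hle : F.L ≤ Subgroup.centralizer ({h} : Set G) := iSup₂_le fun s hs x hx =>
      Subgroup.mem_centralizer_singleton_iff.2 (Subgroup.mem_centralizer_iff.1 (hh s hs.1 hs.2) x hx)
    exact Subgroup.mem_centralizer_iff.2 fun x hx => Subgroup.mem_centralizer_singleton_iff.1 (hle hx)

theorem weak_conj (h : Weak t) {s : G} (hs : IsConj t s) : Weak s := by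
  obtain ⟨F⟩ := h.frame
  obtain ⟨g, hg⟩ := isConj_iff.1 hs
  refine ⟨by rw [← hg]; exact (orderOf_injective (MulAut.conj g).toMonoidHom (MulAut.conj g).injective t).trans h.ht,
    ⟨F.conj g hg⟩, fun x hx hx2 hx1 => ?_⟩
  subst hg
  have hx' := conj_mem_wk g⁻¹ hx
  rw [show g⁻¹ * (g * t * g⁻¹) * g⁻¹⁻¹ = t by group] at hx'
  refine (isConj_iff.2 ⟨g, rfl⟩ : IsConj t _).symm.trans ((h.conj _ hx' ?_ ?_).trans
    (isConj_iff.2 ⟨g, by group⟩))
  · rw [show g⁻¹ * x * g⁻¹⁻¹ * (g⁻¹ * x * g⁻¹⁻¹) = g⁻¹ * (x * x) * g by group, hx2]; group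
  · exact fun e => hx1 (conj_eq_one_iff.1 e)

variable (h : Weak t) (F : Frame t)
include h

theorem Weak.isConj_E {x : G} (hx : x ∈ F.E) (hx1 : x ≠ 1) : IsConj t x :=
  h.conj x (F.E_le hx) (F.E_sq hx) hx1

theorem Weak.E_le_wk {s : G} (hs : s ∈ F.E) (hs1 : s ≠ 1) : F.E ≤ wk s := fun x hx => by
  by_cases hx1 : x = 1
  · rw [hx1]; exact one_mem _
  · exact mem_wk ((h.isConj_E F hs hs1).symm.trans (h.isConj_E F hx hx1)) (F.E_comm hx hs)

/-- The frame at an involution of `E`. -/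
theorem Weak.exists_frame [Finite G] {s : G} (hs : s ∈ F.E) (hs1 : s ≠ 1) :
    ∃ F' : Frame s, F'.E = F.E := by
  obtain ⟨g, hg⟩ := isConj_iff.1 (h.isConj_E F hs hs1)
  obtain ⟨w, hw, hwE⟩ := (F.conj g hg).exists_conj_E (h.E_le_wk F hs hs1) F.card_E
  refine ⟨(F.conj g hg).conj w⁻¹ (by
    rw [mul_assoc, inv_inv, ← wk_comm hw, inv_mul_cancel_left]), Subgroup.ext fun x => ?_⟩
  rw [Frame.conj_E, inv_inv, hwE x]

/-- An element normalizing `E` which acts on it with square one centralizes it. -/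
theorem Weak.commute_of_sq [Finite G] {n : G} (hn : ∀ x ∈ F.E, n * x * n⁻¹ ∈ F.E)
    (h2 : ∀ x ∈ F.E, n * (n * x * n⁻¹) * n⁻¹ = x) {x : G} (hx : x ∈ F.E) : n * x * n⁻¹ = x := by
  by_contra hne
  obtain ⟨c, hc⟩ : ∃ c, c = x * (n * x * n⁻¹) := ⟨_, rfl⟩
  have hcE : c ∈ F.E := hc ▸ mul_mem hx (hn x hx)
  have hc1 : c ≠ 1 := fun e => hne (by
    have := eq_inv_of_mul_eq_one_right (hc ▸ e : x * (n * x * n⁻¹) = 1)
    rwa [inv_eq_of_mul_eq_one_right (F.E_sq hx)] at this)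
  have hcfix : n * c * n⁻¹ = c := by
    rw [hc, show n * (x * (n * x * n⁻¹)) * n⁻¹ = n * x * n⁻¹ * (n * (n * x * n⁻¹) * n⁻¹) by group,
      h2 x hx]
    exact (F.E_comm hx (hn x hx)).symm
  obtain ⟨F', hF'⟩ := h.exists_frame F hcE hc1
  -- an element `v` of the perfect part with `v (n v n⁻¹) = c`
  obtain ⟨v, hv, hvc⟩ : ∃ v : Mdl, (InE v ∧ v.1 = 1) ∧ F'.el v * (n * F'.el v * n⁻¹) = c := by
    obtain ⟨a, ha, rfl⟩ := (hF' ▸ hx : x ∈ F'.E)
    by_cases ha1 : a.1 = 1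
    · exact ⟨a, ⟨ha, ha1⟩, hc.symm⟩
    · refine ⟨z0 * a, ⟨(inE_mul _ _ ((inE_iff _).2 (by simp)) ha).1, inE_fst a ha ha1⟩, ?_⟩
      rw [map_mul, F'.el_z0, show n * (c * F'.el a) * n⁻¹ = n * c * n⁻¹ * (n * F'.el a * n⁻¹) by group,
        hcfix, F.E_comm hcE hx, mul_assoc, ← mul_assoc c c, F.E_sq hcE, one_mul, ← hc]
  obtain ⟨p, q, -, -, hpq⟩ := v0_commutator v hv.1 hv.2
  have hnc : n * c = c * n := mul_inv_eq_iff_eq_mul.1 hcfix
  obtain ⟨p', hp'⟩ := F'.exists_el (conj_mem_wk_of_comm hnc (F'.el_mem p))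
  obtain ⟨q', hq'⟩ := F'.exists_el (conj_mem_wk_of_comm hnc (F'.el_mem q))
  have hv' : n * F'.el v * n⁻¹ = F'.el ⁅p', q'⁆ := by
    rw [map_commutatorElement, hp', hq', ← hpq, map_mul, map_mul, map_mul, map_inv, map_inv,
      commutatorElement_def]
    group
  rw [hv', ← map_mul] at hvc
  have hz : v * ⁅p', q'⁆ = z0 := F'.el_injective (hvc.trans F'.el_z0.symm)
  have := congrArg Prod.fst hz
  rw [Prod.fst_mul, hv.2, fst_commutator, one_mul] at this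
  exact absurd this (by decide)

/-- `C(E) = E · C(wk t)`. -/
theorem Weak.centralizer_E {g : G} (hg : ∀ x ∈ F.E, g * x = x * g) :
    ∃ e ∈ F.E, e * g ∈ Subgroup.centralizer (wk t : Set G) := by
  have hgt : g * t = t * g := hg t F.t_mem_E
  obtain ⟨γ, hγ⟩ := F.exists_el (conj_mem_wk_of_comm hgt (F.el_mem c0))
  have hfix : ∀ a : Mdl, InE a → g * F.el a * g⁻¹ = F.el a := fun a ha => by
    rw [hg _ (F.el_mem_E ha), mul_inv_cancel_right]
  have hγ1 : γ.1 = 1 := by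
    obtain ⟨p, q, hpq⟩ := c0_commutator
    obtain ⟨p', hp'⟩ := F.exists_el (conj_mem_wk_of_comm hgt (F.el_mem p))
    obtain ⟨q', hq'⟩ := F.exists_el (conj_mem_wk_of_comm hgt (F.el_mem q))
    have : γ = ⁅p', q'⁆ := F.el_injective (by
      rw [hγ, ← hpq, map_commutatorElement, map_commutatorElement, hp', hq', commutatorElement_def,
        commutatorElement_def]
      group)
    rw [this]; exact fst_commutator p' q'
  have hrel : ∀ (a : Mdl) (k : ℕ), InE a → a.1 = 1 →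
      ((a.2 * γ.2) ^ k = 1 ↔ (a.2 * c0.2) ^ k = 1) := by
    intro a k ha ha1
    have key : ∀ b : Mdl, b.1 = 1 → ((b.2 ^ k = 1) ↔ F.el b ^ k = 1) := fun b hb => by
      rw [← map_pow, ← map_one F.el, F.el_injective.eq_iff, Prod.ext_iff, Prod.pow_fst,
        Prod.pow_snd, hb, one_pow]
      simp
    rw [show a.2 * γ.2 = (a * γ).2 from rfl, show a.2 * c0.2 = (a * c0).2 from rfl,
      key _ (by rw [Prod.fst_mul, ha1, hγ1, one_mul]), key _ (by rw [Prod.fst_mul, ha1, one_mul]; rfl),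
      map_mul, map_mul, hγ, show F.el a * (g * F.el c0 * g⁻¹) = g * (F.el a * F.el c0) * g⁻¹ by
        conv_lhs => rw [← hfix a ha]
        group, conj_pow, conj_eq_one_iff]
  have hγ2 : γ.2 * γ.2 = 1 := by
    have : γ * γ = 1 := F.el_injective (by
      rw [map_mul, hγ, map_one, show g * F.el c0 * g⁻¹ * (g * F.el c0 * g⁻¹) =
        g * (F.el c0 * F.el c0) * g⁻¹ by group, ← map_mul,
        show c0 * c0 = 1 by decide +kernel, map_one]
      group)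
    exact congrArg Prod.snd this
  have hA : InE a0 ∧ InE b0 ∧ InE (a0 * b0) :=
    ⟨(inE_iff _).2 (by simp), (inE_iff _).2 (by simp), (inE_iff _).2 (by simp)⟩
  obtain ⟨v, hv, hvγ⟩ : ∃ v : Mdl, InE v ∧ γ = v * c0 * v⁻¹ := by
    rcases rigid γ.2 hγ2 (fun k => hrel a0 k hA.1 rfl) (fun k => hrel b0 k hA.2.1 rfl)
      (fun k => hrel (a0 * b0) k hA.2.2 rfl) with e | e | e | e
    · exact ⟨1, (inE_iff _).2 (by simp), Prod.ext (by rw [hγ1]; decide +kernel) (by simpa using e)⟩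
    · exact ⟨a0, hA.1, Prod.ext (by rw [hγ1]; decide +kernel) (by simpa using e)⟩
    · exact ⟨b0, hA.2.1, Prod.ext (by rw [hγ1]; decide +kernel) (by simpa using e)⟩
    · exact ⟨a0 * b0, hA.2.2, Prod.ext (by rw [hγ1]; decide +kernel) (by simpa using e)⟩
  refine ⟨(F.el v)⁻¹, inv_mem (F.el_mem_E hv), ?_⟩
  have hgens : ∀ a ∈ ({z0, a0, b0, c0} : Set Mdl),
      (F.el v)⁻¹ * g * F.el a = F.el a * ((F.el v)⁻¹ * g) := by
    have hE : ∀ a : Mdl, InE a → (F.el v)⁻¹ * g * F.el a = F.el a * ((F.el v)⁻¹ * g) := fun a ha => by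
      rw [mul_assoc, hg _ (F.el_mem_E ha), ← mul_assoc,
        F.E_comm (inv_mem (F.el_mem_E hv)) (F.el_mem_E ha), mul_assoc]
    intro a ha
    simp only [Set.mem_insert_iff, Set.mem_singleton_iff] at ha
    rcases ha with rfl | rfl | rfl | rfl
    · exact hE _ ((inE_iff _).2 (by simp))
    · exact hE _ hA.1
    · exact hE _ hA.2.1
    · have e : g * F.el c0 = F.el γ * g := by rw [hγ, inv_mul_cancel_right]
      rw [mul_assoc, e, hvγ, map_mul, map_mul, map_inv]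
      group
  have hle : Subgroup.closure ({z0, a0, b0, c0} : Set Mdl) ≤
      (Subgroup.centralizer ({(F.el v)⁻¹ * g} : Set G)).comap F.el := (Subgroup.closure_le _).2
    fun a ha => Subgroup.mem_centralizer_singleton_iff.2 (hgens a ha).symm
  rw [mdl_closure] at hle
  refine Subgroup.mem_centralizer_iff.2 fun x hx => ?_
  obtain ⟨a, rfl⟩ := F.exists_el hx
  exact Subgroup.mem_centralizer_singleton_iff.1 (hle (Subgroup.mem_top a))

/-- `C(t) ∩ N(E)` acts on `E` as `N(E) ∩ wk t` does. -/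
theorem Weak.normalizer_E [Finite G] {n : G} (hn : ∀ x ∈ F.E, n * x * n⁻¹ ∈ F.E)
    (hnt : n * t = t * n) : ∃ q ∈ ({1, y0, y0 * y0} : Finset Mdl),
      ∀ x ∈ F.E, (F.el q)⁻¹ * n * x = x * ((F.el q)⁻¹ * n) := by
  have hfst : ∀ a : Mdl, InE a → a.1 = 1 → a ≠ 1 → ∃ b, (InE b ∧ b.1 = 1 ∧ b ≠ 1) ∧
      n * F.el a * n⁻¹ = F.el b := by
    intro a ha ha1 ha0
    obtain ⟨p, q, -, -, hpq⟩ := v0_commutator a ha ha1
    obtain ⟨p', hp'⟩ := F.exists_el (conj_mem_wk_of_comm hnt (F.el_mem p))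
    obtain ⟨q', hq'⟩ := F.exists_el (conj_mem_wk_of_comm hnt (F.el_mem q))
    have e : n * F.el a * n⁻¹ = F.el ⁅p', q'⁆ := by
      rw [← hpq, map_commutatorElement, hp', hq', map_mul, map_mul, map_mul, map_inv, map_inv,
        commutatorElement_def]
      group
    exact ⟨_, ⟨F.el_mem_E_iff.1 (e ▸ hn _ (F.el_mem_E ha)), fst_commutator p' q',
      fun h1 => F.el_ne_one ha0 (conj_eq_one_iff.1 (e.trans (by rw [h1, map_one])))⟩, e⟩
  have hA : InE a0 ∧ InE b0 ∧ InE (a0 * b0) ∧ a0 ≠ 1 ∧ b0 ≠ 1 :=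
    ⟨(inE_iff _).2 (by simp), (inE_iff _).2 (by simp), (inE_iff _).2 (by simp), by decide +kernel,
      by decide +kernel⟩
  obtain ⟨b, ⟨hb, hb1, hb0⟩, eb⟩ := hfst a0 hA.1 rfl hA.2.2.2.1
  obtain ⟨q, hq, hqb⟩ : ∃ q ∈ ({1, y0, y0 * y0} : Finset Mdl), q * a0 * q⁻¹ = b := by
    rcases inE_commutator b hb hb1 with rfl | rfl | rfl | rfl
    · exact absurd rfl hb0
    · exact ⟨1, by simp, by simp⟩
    · exact ⟨y0 * y0, by simp, model_conj.1⟩
    · exact ⟨y0, by simp, model_conj.2.1⟩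
  refine ⟨q, hq, ?_⟩
  have hqE : ∀ x ∈ F.E, (F.el q)⁻¹ * x * F.el q ∈ F.E := by
    rintro _ ⟨a, ha, rfl⟩
    rw [← map_inv, ← map_mul, ← map_mul]
    exact F.el_mem_E (y_norm q hq a ha).2
  obtain ⟨m, hm⟩ : ∃ m, m = (F.el q)⁻¹ * n := ⟨_, rfl⟩
  have hmE : ∀ x ∈ F.E, m * x * m⁻¹ ∈ F.E := fun x hx => by
    have := hqE _ (hn x hx)
    rwa [show m * x * m⁻¹ = (F.el q)⁻¹ * (n * x * n⁻¹) * F.el q by rw [hm]; group]
  have hmt : m * t * m⁻¹ = t := by
    rw [hm, show (F.el q)⁻¹ * n * t * ((F.el q)⁻¹ * n)⁻¹ = (F.el q)⁻¹ * (n * t * n⁻¹) * F.el q by group,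
      hnt, mul_inv_cancel_right, mul_assoc, ← wk_comm (F.el_mem q), inv_mul_cancel_left]
  have hma : m * F.el a0 * m⁻¹ = F.el a0 := by
    rw [hm, show (F.el q)⁻¹ * n * F.el a0 * ((F.el q)⁻¹ * n)⁻¹ =
      (F.el q)⁻¹ * (n * F.el a0 * n⁻¹) * F.el q by group, eb, ← hqb, map_mul, map_mul, map_inv]
    group
  have h2 : ∀ x ∈ F.E, m * (m * x * m⁻¹) * m⁻¹ = x := by
    -- enough on generators
    have hmb : m * (m * F.el b0 * m⁻¹) * m⁻¹ = F.el b0 := by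
      obtain ⟨c, ⟨hc, hc1, hc0⟩, ec⟩ := hfst b0 hA.2.1 rfl hA.2.2.2.2
      have e : m * F.el b0 * m⁻¹ = F.el (q⁻¹ * c * q) := by
        rw [hm, show (F.el q)⁻¹ * n * F.el b0 * ((F.el q)⁻¹ * n)⁻¹ =
          (F.el q)⁻¹ * (n * F.el b0 * n⁻¹) * F.el q by group, ec, map_mul, map_mul, map_inv]
      have hd : InE (q⁻¹ * c * q) := F.el_mem_E_iff.1 (e ▸ hmE _ (F.el_mem_E hA.2.1))
      have hd1 : (q⁻¹ * c * q).1 = 1 := by
        rw [Prod.fst_mul, Prod.fst_mul, Prod.fst_inv, mul_comm q.1⁻¹, inv_mul_cancel_right, hc1]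
      rcases inE_commutator _ hd hd1 with h1 | h1 | h1 | h1
      · exact absurd (conj_eq_one_iff.1 (by rw [e, h1, map_one])) (F.el_ne_one hA.2.2.2.2)
      · rw [h1] at e
        have := mul_left_cancel (mul_right_cancel (e.trans hma.symm))
        exact absurd (F.el_injective this) (by decide +kernel)
      · rw [h1] at e; rw [e, e]
      · rw [h1] at e
        rw [e, map_mul, show m * (F.el a0 * F.el b0) * m⁻¹ = m * F.el a0 * m⁻¹ * (m * F.el b0 * m⁻¹) by group,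
          hma, e, ← map_mul]
        exact congrArg F.el a0_a0_b0
    let K : Subgroup Mdl :=
      { carrier := {a | m * (m * F.el a * m⁻¹) * m⁻¹ = F.el a}
        one_mem' := by show _ = _; rw [map_one]; group
        mul_mem' := fun {a b} ha hb => by
          show _ = _
          rw [map_mul, show m * (m * (F.el a * F.el b) * m⁻¹) * m⁻¹ =
            m * (m * F.el a * m⁻¹) * m⁻¹ * (m * (m * F.el b * m⁻¹) * m⁻¹) by group, ha, hb]
        inv_mem' := fun {a} ha => by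
          show _ = _
          rw [map_inv, show m * (m * (F.el a)⁻¹ * m⁻¹) * m⁻¹ = (m * (m * F.el a * m⁻¹) * m⁻¹)⁻¹ by simp [mul_assoc], ha] }
    have hz : z0 ∈ K := by show _ = _; rw [F.el_z0, hmt, hmt]
    have ha : a0 ∈ K := by show _ = _; rw [hma, hma]
    have hb : b0 ∈ K := hmb
    rintro _ ⟨a, haE, rfl⟩
    show a ∈ K
    rcases (inE_iff a).1 haE with rfl | rfl | rfl | rfl | rfl | rfl | rfl | rfl
    exacts [K.one_mem, ha, hb, mul_mem ha hb, hz, mul_mem hz ha, mul_mem hz hb,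
      mul_mem hz (mul_mem ha hb)]
  intro x hx
  rw [← hm]
  exact mul_inv_eq_iff_eq_mul.1 (h.commute_of_sq F hmE h2 hx)

/-- `C(t) = wk t · C(E)`. -/
theorem Weak.centralizer_t [Finite G] {g : G} (hg : g * t = t * g) :
    ∃ w ∈ wk t, ∀ x ∈ F.E, w * g * x = x * (w * g) := by
  have hQ : F.E.map (MulAut.conj g).toMonoidHom ≤ wk t := by
    rintro _ ⟨x, hx, rfl⟩
    exact conj_mem_wk_of_comm hg (F.E_le hx)
  obtain ⟨w, hw, hwE⟩ := F.exists_conj_E hQ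
    (by rw [Subgroup.card_map_of_injective (MulAut.conj g).injective, F.card_E])
  obtain ⟨q, -, hq⟩ := h.normalizer_E F (n := w * g) (fun x hx => by
      have := (hwE _).1 ⟨x, hx, rfl⟩
      simpa [mul_assoc] using this)
    (by rw [mul_assoc, hg, ← mul_assoc, wk_comm hw, mul_assoc])
  refine ⟨(F.el q)⁻¹ * w, mul_mem (inv_mem (F.el_mem q)) hw, fun x hx => ?_⟩
  simpa [mul_assoc] using hq x hx

/-- Commutators of elements of `C(E)` meet `E` trivially. -/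
theorem Weak.commutator_inf [Finite G] {g k : G} (hg : ∀ x ∈ F.E, g * x = x * g)
    (hk : ∀ x ∈ F.E, k * x = x * k) (hE : ⁅g, k⁆ ∈ F.E) : ⁅g, k⁆ = 1 := by
  have key : ∀ (s : G) (F' : Frame s), Weak s → F'.E = F.E → ⁅g, k⁆ = 1 ∨ ⁅g, k⁆ = s := by
    intro s F' hs hEq
    obtain ⟨e₁, he₁, h₁⟩ := hs.centralizer_E F' (g := g) (hEq ▸ hg)
    obtain ⟨e₂, he₂, h₂⟩ := hs.centralizer_E F' (g := k) (hEq ▸ hk)
    rw [hEq] at he₁ he₂
    have e : ⁅g, k⁆ = ⁅e₁ * g, e₂ * k⁆ := by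
      have h1 : ⁅e₁ * g, e₂ * k⁆ = e₁ * g * e₂ * k * g⁻¹ * e₁⁻¹ * k⁻¹ * e₂⁻¹ := by
        rw [commutatorElement_def]; group
      rw [h1, mul_assoc e₁ g e₂, hg e₂ he₂, show e₁ * (e₂ * g) * k * g⁻¹ * e₁⁻¹ * k⁻¹ * e₂⁻¹ =
        e₁ * e₂ * (g * k * g⁻¹) * (e₁⁻¹ * k⁻¹) * e₂⁻¹ by group,
        show e₁⁻¹ * k⁻¹ = k⁻¹ * e₁⁻¹ by rw [← mul_inv_rev, ← mul_inv_rev, hk e₁ he₁],
        show e₁ * e₂ * (g * k * g⁻¹) * (k⁻¹ * e₁⁻¹) * e₂⁻¹ =
          (e₁ * e₂) * ⁅g, k⁆ * (e₁⁻¹ * e₂⁻¹) by rw [commutatorElement_def]; group,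
        F.E_comm (mul_mem he₁ he₂) hE, F.E_comm (inv_mem he₁) (inv_mem he₂), ← mul_inv_rev,
        mul_inv_cancel_right]
    have hH : ⁅g, k⁆ ∈ Subgroup.centralizer (wk s : Set G) := by
      rw [e, commutatorElement_def]
      exact mul_mem (mul_mem (mul_mem h₁ h₂) (inv_mem h₁)) (inv_mem h₂)
    obtain ⟨a, ha, hax⟩ := (hEq ▸ hE : ⁅g, k⁆ ∈ F'.E)
    have hc : ∀ y, F'.el a * F'.el y = F'.el y * F'.el a := fun y => by
      rw [hax]; exact (Subgroup.mem_centralizer_iff.1 hH _ (F'.el_mem y)).symm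
    have hc' : ∀ y, a * y = y * a := fun y => F'.el_injective (by rw [map_mul, map_mul, hc])
    rcases center_eq a (hc' _) (hc' _) (hc' _) with rfl | rfl
    · exact Or.inl (by rw [← hax, map_one])
    · exact Or.inr (by rw [← hax, F'.el_z0])
  rcases key t F h rfl with h1 | h1
  · exact h1
  · have hs : F.el a0 ∈ F.E := F.el_mem_E ((inE_iff _).2 (by simp))
    have hs1 : F.el a0 ≠ 1 := F.el_ne_one (by decide +kernel)
    obtain ⟨F', hF'⟩ := h.exists_frame F hs hs1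
    rcases key _ F' (weak_conj h (h.isConj_E F hs hs1)) hF' with h2 | h2
    · exact h2
    · have : a0 = z0 := F.el_injective (by rw [← h2, h1, F.el_z0])
      exact absurd this (by decide +kernel)

/-- An element of `N(E)` in the weak closure of some involution of `E` acts trivially on `C(E)/E`. -/
theorem Weak.exists_ys [Finite G] : ∃ Γ : Subgroup G,
    (∀ y ∈ F.ys, y ∈ Γ) ∧ Γ ≤ F.L ∧ (∀ γ ∈ Γ, ∀ x ∈ F.E, γ * x * γ⁻¹ ∈ F.E) ∧
    ∀ γ ∈ Γ, ∀ g : G, (∀ x ∈ F.E, g * x = x * g) → ∃ e ∈ F.E, γ * g * γ⁻¹ = g * e := by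
  let K : Subgroup G :=
    { carrier := {γ | (∀ x, γ * x * γ⁻¹ ∈ F.E ↔ x ∈ F.E) ∧
        ∀ g : G, (∀ x ∈ F.E, g * x = x * g) → ∃ e ∈ F.E, γ * g * γ⁻¹ = g * e}
      one_mem' := ⟨fun x => by simp, fun g _ => ⟨1, one_mem _, by simp⟩⟩
      mul_mem' := by
        rintro γ δ ⟨h1, h2⟩ ⟨h3, h4⟩
        refine ⟨fun x => ?_, fun g hg => ?_⟩
        · rw [show γ * δ * x * (γ * δ)⁻¹ = γ * (δ * x * δ⁻¹) * γ⁻¹ by group, h1, h3]
        · obtain ⟨e, he, hge⟩ := h4 g hg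
          obtain ⟨e', he', hge'⟩ := h2 g hg
          refine ⟨e' * (γ * e * γ⁻¹), mul_mem he' ((h1 e).2 he), ?_⟩
          rw [show γ * δ * g * (γ * δ)⁻¹ = γ * (δ * g * δ⁻¹) * γ⁻¹ by group, hge,
            show γ * (g * e) * γ⁻¹ = γ * g * γ⁻¹ * (γ * e * γ⁻¹) by group, hge', mul_assoc]
      inv_mem' := by
        rintro γ ⟨h1, h2⟩
        have hinv : ∀ x, γ⁻¹ * x * γ⁻¹⁻¹ ∈ F.E ↔ x ∈ F.E := fun x => by
          rw [← h1, show γ * (γ⁻¹ * x * γ⁻¹⁻¹) * γ⁻¹ = x by group]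
        refine ⟨hinv, fun g hg => ?_⟩
        obtain ⟨e, he, hge⟩ := h2 g hg
        refine ⟨(γ⁻¹ * e * γ⁻¹⁻¹)⁻¹, inv_mem ((hinv e).2 he), eq_mul_inv_iff_mul_eq.2 ?_⟩
        rw [show γ⁻¹ * g * γ⁻¹⁻¹ * (γ⁻¹ * e * γ⁻¹⁻¹) = γ⁻¹ * (g * e) * γ by group, ← hge]
        group }
  refine ⟨Subgroup.closure F.ys, fun y hy => Subgroup.subset_closure hy, ?_, ?_⟩
  · exact (Subgroup.closure_le _).2 fun y ⟨s, hs, hs1, hy, _⟩ => F.wk_le_L hs hs1 hy
  have hK : Subgroup.closure F.ys ≤ K := by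
    refine (Subgroup.closure_le _).2 fun y ⟨s, hs, hs1, hy, hyE⟩ => ⟨fun x => ⟨fun hx => ?_, hyE x⟩,
      fun g hg => ?_⟩
    · -- conjugation by `y` is onto `E`
      have hb : Function.Bijective (fun x : F.E => (⟨y * x * y⁻¹, hyE x x.2⟩ : F.E)) :=
        Finite.injective_iff_bijective.1 fun a b hab =>
          Subtype.ext (mul_left_cancel (mul_right_cancel (congrArg Subtype.val hab :)))
      obtain ⟨⟨x', hx'⟩, e⟩ := hb.2 ⟨_, hx⟩
      rwa [← mul_left_cancel (mul_right_cancel (congrArg Subtype.val e :))]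
    · obtain ⟨F', hF'⟩ := h.exists_frame F hs hs1
      obtain ⟨e, he, heg⟩ := (weak_conj h (h.isConj_E F hs hs1)).centralizer_E F' (g := g) (hF' ▸ hg)
      rw [hF'] at he
      have hc := Subgroup.mem_centralizer_iff.1 heg y hy
      refine ⟨e * (y * e⁻¹ * y⁻¹), mul_mem he (hyE _ (inv_mem he)), ?_⟩
      rw [← mul_assoc, hg e he, show y * g * y⁻¹ = y * e⁻¹ * y⁻¹ * (y * (e * g) * y⁻¹) by group,
        hc, mul_inv_cancel_right]
      have h2 := hg _ (hyE _ (inv_mem he))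
      rw [← mul_assoc, F.E_comm (hyE _ (inv_mem he)) he, mul_assoc, ← h2, ← mul_assoc]
  exact ⟨fun γ hγ x hx => ((hK hγ).1 x).2 hx, fun γ hγ g hg => (hK hγ).2 g hg⟩

/-- `C(E) = E × C(L)`. -/
theorem Weak.split [Finite G] :
    (∀ s ∈ F.E, s ≠ 1 → ∃ l ∈ F.L, l * t * l⁻¹ = s) ∧
    ∀ g : G, (∀ x ∈ F.E, g * x = x * g) →
      ∃ e ∈ F.E, e * g ∈ Subgroup.centralizer (F.L : Set G) := by
  classical
  haveI : Fact (Nat.Prime 7) := ⟨by norm_num⟩
  obtain ⟨Γ, hys, hΓL, hΓE, hΓg⟩ := h.exists_ys F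
  let X : Type _ := {x : G // x ∈ F.E ∧ x ≠ 1}
  letI act : MulAction Γ X :=
    { smul := fun γ x => ⟨(γ : G) * x.1 * (γ : G)⁻¹, hΓE γ γ.2 x.1 x.2.1,
        fun e => x.2.2 (conj_eq_one_iff.1 e)⟩
      one_smul := fun x => Subtype.ext (by simp [HSMul.hSMul, SMul.smul])
      mul_smul := fun a b x => Subtype.ext (by simp [HSMul.hSMul, SMul.smul, mul_assoc]) }
  have smul_def : ∀ (γ : Γ) (x : X), ((γ • x : X) : G) = (γ : G) * x.1 * (γ : G)⁻¹ := fun _ _ => rfl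
  let π := MulAction.toPermHom Γ X
  let Ψ := π.range
  have hX : Nat.card X = 7 := by
    rw [show Nat.card X = ((F.E : Set G) \ {1}).ncard from Nat.card_coe_set_eq ((F.E : Set G) \ {1}),
      Set.ncard_sdiff_singleton_of_mem (one_mem _), ← Nat.card_coe_set_eq, SetLike.coe_sort_coe,
      F.card_E]
  -- every point stabilizer has order three
  have hstab : ∀ x : X, Nat.card (MulAction.stabilizer Ψ x) = 3 := by
    rintro ⟨s, hs, hs1⟩
    obtain ⟨F', hF'⟩ := h.exists_frame F hs hs1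
    have hy : ∀ q ∈ ({1, y0, y0 * y0} : Finset Mdl), F'.el q ∈ Γ := by
      intro q hq
      refine hys _ ⟨s, hs, hs1, F'.el_mem q, ?_⟩
      intro x hx
      obtain ⟨a, ha, rfl⟩ : x ∈ F'.E := by rw [hF']; exact hx
      rw [← map_inv, ← map_mul, ← map_mul]
      exact hF'.le (F'.el_mem_E (y_norm q hq a ha).1)
    let f : {q // q ∈ ({1, y0, y0 * y0} : Finset Mdl)} → MulAction.stabilizer Ψ (⟨s, hs, hs1⟩ : X) :=
      fun q => ⟨⟨π ⟨F'.el q.1, hy _ q.2⟩, ⟨_, rfl⟩⟩, by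
        refine Subtype.ext ?_
        show F'.el q.1 * s * (F'.el q.1)⁻¹ = s
        rw [wk_comm (F'.el_mem q.1), mul_inv_cancel_right]⟩
    rw [← show Nat.card {q // q ∈ ({1, y0, y0 * y0} : Finset Mdl)} = 3 by
      rw [Nat.card_eq_finsetCard]; decide +kernel]
    refine (Nat.card_eq_of_bijective f ⟨fun a b hab => ?_, fun ψ => ?_⟩).symm
    · have key : ∀ x ∈ F.E, F'.el a.1 * x * (F'.el a.1)⁻¹ = F'.el b.1 * x * (F'.el b.1)⁻¹ := by
        intro x hx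
        by_cases hx1 : x = 1
        · simp [hx1]
        have := congrArg (fun ψ : MulAction.stabilizer Ψ (⟨s, hs, hs1⟩ : X) =>
          ((ψ.1.1 : Equiv.Perm X) ⟨x, hx, hx1⟩ : G)) hab
        exact this
      have ha0 := key (F'.el a0) (hF' ▸ F'.el_mem_E ((inE_iff _).2 (by simp)))
      rw [← map_inv, ← map_inv, ← map_mul, ← map_mul, ← map_mul, ← map_mul] at ha0
      have e := F'.el_injective ha0
      exact Subtype.ext (y_inj _ a.2 _ b.2 e)
    · obtain ⟨⟨ψ, ⟨⟨γ, hγ⟩, hγψ⟩⟩, hψs⟩ := ψ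
      subst hγψ
      have hγs : γ * s * γ⁻¹ = s := congrArg Subtype.val hψs
      obtain ⟨q, hq, hqc⟩ := (weak_conj h (h.isConj_E F hs hs1)).normalizer_E F' (n := γ)
        (hF' ▸ hΓE γ hγ) (mul_inv_eq_iff_eq_mul.1 hγs)
      refine ⟨⟨q, hq⟩, Subtype.ext (Subtype.ext ?_)⟩
      show π _ = π _
      refine Equiv.ext fun x => Subtype.ext ?_
      show F'.el q * x.1 * (F'.el q)⁻¹ = γ * x.1 * γ⁻¹
      have := hqc x.1 (by rw [hF']; exact x.2.1)
      rw [show γ * x.1 * γ⁻¹ = F'.el q * ((F'.el q)⁻¹ * γ * x.1) * γ⁻¹ by group, this]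
      group
  -- so `Ψ` is transitive of order 21
  have horb : ∀ x : X, Nat.card (MulAction.orbit Ψ x) * 3 = Nat.card Ψ := fun x => by
    rw [← hstab x, ← Nat.card_prod,
      Nat.card_congr (MulAction.orbitProdStabilizerEquivGroup Ψ x)]
  obtain ⟨x₀⟩ : Nonempty X := ⟨⟨t, F.t_mem_E, fun e => by
    have := h.ht; rw [e, orderOf_one] at this; omega⟩⟩
  haveI : Fintype (MulAction.orbitRel.Quotient Ψ X) := Fintype.ofFinite _
  have hsize : Nat.card (MulAction.orbit Ψ x₀) = 7 := by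
    have hpart := Nat.card_congr (MulAction.selfEquivSigmaOrbits' Ψ X)
    rw [hX, Nat.card_sigma, Finset.sum_congr rfl (g := fun _ => Nat.card (MulAction.orbit Ψ x₀))
      (fun q _ => ?_), Finset.sum_const, smul_eq_mul] at hpart
    · refine ((Nat.dvd_prime (by norm_num)).1 ⟨_, hpart.trans (mul_comm _ _)⟩).resolve_left fun h1 => ?_
      -- some stabilizer moves `x₀`
      have hc := hstab x₀
      have h3 := horb x₀
      rw [h1, one_mul] at h3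
      have htop : MulAction.stabilizer Ψ x₀ = ⊤ := Subgroup.eq_top_of_card_eq _ (by rw [hc, h3])
      obtain ⟨F₀, hF₀⟩ := h.exists_frame F x₀.2.1 x₀.2.2
      have hall : ∀ x : X, x ∈ MulAction.orbit Ψ x → MulAction.stabilizer Ψ x = ⊤ := fun x _ =>
        Subgroup.eq_top_of_card_eq _ (by rw [hstab x, h3])
      have ha : F₀.el a0 ∈ F.E := hF₀.le (F₀.el_mem_E ((inE_iff _).2 (by simp)))
      have hy : F₀.el y0 ∈ Γ := hys _ ⟨x₀.1, x₀.2.1, x₀.2.2, F₀.el_mem _, by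
        intro x hx
        obtain ⟨a, ha, rfl⟩ : x ∈ F₀.E := by rw [hF₀]; exact hx
        rw [← map_inv, ← map_mul, ← map_mul]
        exact hF₀.le (F₀.el_mem_E ((inE_y0 a).1 ha))⟩
      let xa : X := ⟨F₀.el a0, ha, F₀.el_ne_one (by decide +kernel)⟩
      have := hall xa (MulAction.mem_orbit_self _)
      have hm : (⟨π ⟨_, hy⟩, ⟨_, rfl⟩⟩ : Ψ) ∈ MulAction.stabilizer Ψ xa := this ▸ Subgroup.mem_top _
      have e : F₀.el y0 * F₀.el a0 * (F₀.el y0)⁻¹ = F₀.el a0 := congrArg Subtype.val hm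
      rw [← map_inv, ← map_mul, ← map_mul] at e
      exact absurd (F₀.el_injective e) (by decide +kernel)
    · have h1 := horb (Quotient.out q)
      have h2 := horb x₀
      rw [MulAction.orbitRel.Quotient.orbit_eq_orbit_out q Quotient.out_eq']
      omega
  have horbtop : MulAction.orbit Ψ x₀ = Set.univ := by
    refine Set.eq_of_subset_of_ncard_le (Set.subset_univ _) ?_ (Set.toFinite _)
    rw [Set.ncard_univ, hX, ← Nat.card_coe_set_eq, hsize]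
  have h21 : Nat.card Ψ = 21 := by rw [← horb x₀, hsize]
  refine ⟨fun s hs hs1 => ?_, fun g hg => ?_⟩
  · have hall : ∀ x : X, x ∈ MulAction.orbit Ψ x₀ := fun x => horbtop ▸ Set.mem_univ x
    obtain ⟨⟨ψ₁, ⟨γ₁, hγ₁⟩⟩, e₁⟩ := hall ⟨s, hs, hs1⟩
    obtain ⟨⟨ψ₂, ⟨γ₂, hγ₂⟩⟩, e₂⟩ := hall ⟨t, F.t_mem_E, fun e => by
      have := h.ht; rw [e, orderOf_one] at this; omega⟩
    have f₁ : (γ₁ : G) * x₀.1 * (γ₁ : G)⁻¹ = s := by
      subst hγ₁; exact congrArg Subtype.val e₁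
    have f₂ : (γ₂ : G) * x₀.1 * (γ₂ : G)⁻¹ = t := by
      subst hγ₂; exact congrArg Subtype.val e₂
    refine ⟨(γ₁ : G) * (γ₂ : G)⁻¹, mul_mem (hΓL γ₁.2) (inv_mem (hΓL γ₂.2)), ?_⟩
    have f₂' : (γ₂ : G)⁻¹ * t * (γ₂ : G) = x₀.1 := by
      rw [mul_assoc, ← mul_inv_eq_iff_eq_mul.1 f₂, inv_mul_cancel_left]
    rw [← f₁, ← f₂']
    group
  obtain ⟨⟨ψ, ⟨γ, hγψ⟩⟩, hord⟩ := exists_prime_orderOf_dvd_card' (G := Ψ) 7 (by rw [h21]; norm_num)
  -- `ψ` moves every point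
  have hfree : ∀ x : X, γ • x ≠ x := by
    intro x hx
    have hm : (⟨ψ, ⟨γ, hγψ⟩⟩ : Ψ) ∈ MulAction.stabilizer Ψ x := by
      refine Subtype.ext ?_
      subst hγψ
      exact congrArg Subtype.val hx
    have := (MulAction.stabilizer Ψ x).orderOf_dvd_natCard hm
    rw [hord, hstab] at this
    norm_num at this
  have hfreeE : ∀ d ∈ F.E, (γ : G) * d * (γ : G)⁻¹ = d → d = 1 := fun d hd e => by
    by_contra hd1
    exact hfree ⟨d, hd, hd1⟩ (Subtype.ext e)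
  obtain ⟨d, hd, hgd⟩ := hΓg γ γ.2 g hg
  -- a fixed point in the coset
  obtain ⟨⟨e, he⟩, hee⟩ : ∃ e : F.E, (⟨(e : G) * ((γ : G) * e * (γ : G)⁻¹),
      mul_mem e.2 (hΓE γ γ.2 e e.2)⟩ : F.E) = ⟨d, hd⟩ := by
    refine (Finite.injective_iff_bijective.1 (fun a b hab => ?_)).2 _
    have e1 := congrArg Subtype.val hab
    simp only at e1
    have hab' : (γ : G) * ((a : G) * b) * (γ : G)⁻¹ = (a : G) * b := by
      rw [show (γ : G) * ((a : G) * b) * (γ : G)⁻¹ = (γ : G) * a * (γ : G)⁻¹ * ((γ : G) * b * (γ : G)⁻¹) by group]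
      have ha := F.E_sq a.2
      have hb := F.E_sq b.2
      have e2 : (γ : G) * a * (γ : G)⁻¹ = (a : G) * b * ((γ : G) * b * (γ : G)⁻¹) := by
        rw [mul_assoc (a : G), ← e1, ← mul_assoc, ha, one_mul]
      rw [e2, mul_assoc, F.E_sq (hΓE γ γ.2 b b.2), mul_one]
    exact Subtype.ext (eq_inv_of_mul_eq_one_left (hfreeE _ (mul_mem a.2 b.2) hab') |>.trans
      (inv_eq_of_mul_eq_one_right (F.E_sq b.2)))
  have hee' := congrArg Subtype.val hee
  simp only at hee'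
  refine ⟨e, he, ?_⟩
  obtain ⟨p, hp⟩ : ∃ p, p = e * g := ⟨_, rfl⟩
  have hpc : ∀ x ∈ F.E, p * x = x * p := fun x hx => by
    rw [hp, mul_assoc, hg x hx, ← mul_assoc, F.E_comm he hx, mul_assoc]
  have hpfix : (γ : G) * p * (γ : G)⁻¹ = p := by
    rw [hp, show (γ : G) * (e * g) * (γ : G)⁻¹ = (γ : G) * e * (γ : G)⁻¹ * ((γ : G) * g * (γ : G)⁻¹) by group,
      hgd, ← hee', hg _ (mul_mem he (hΓE γ γ.2 e he))]
    rw [← mul_assoc, ← mul_assoc, F.E_comm (hΓE γ γ.2 e he) he, mul_assoc e,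
      F.E_sq (hΓE γ γ.2 e he), mul_one]
  rw [← hp, F.mem_centralizer_L_iff]
  intro s hs hs1
  obtain ⟨F', hF'⟩ := h.exists_frame F hs hs1
  have hy : F'.el y0 ∈ Γ := hys _ ⟨s, hs, hs1, F'.el_mem _, by
    rw [← hF']
    rintro _ ⟨a, ha, rfl⟩
    rw [← map_inv, ← map_mul, ← map_mul]
    exact F'.el_mem_E ((inE_y0 a).1 ha)⟩
  obtain ⟨δ, hδ, hyδ⟩ := hΓg _ hy p hpc
  -- the conjugate of `γ` by `y` is a power of `γ` up to an element centralizing `C(E)`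
  have hcomm : ∀ κ ∈ Γ, (∀ x ∈ F.E, κ * x = x * κ) → ∀ r : G, (∀ x ∈ F.E, r * x = x * r) →
      κ * r = r * κ := fun κ hκ hκc r hrc => by
    obtain ⟨d', hd', hκr⟩ := hΓg κ hκ r hrc
    have e' : ⁅r⁻¹, κ⁆ = d' := by
      rw [commutatorElement_def, inv_inv, mul_assoc r⁻¹ κ r, mul_assoc r⁻¹, hκr,
        inv_mul_cancel_left]
    have hri : ∀ x ∈ F.E, r⁻¹ * x = x * r⁻¹ := fun x hx =>
      (Commute.inv_left (hrc x hx : Commute r x)).eq
    have := h.commutator_inf F hri hκc (e' ▸ hd')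
    rw [e'] at this
    rw [this, mul_one] at hκr
    exact mul_inv_eq_iff_eq_mul.1 hκr
  obtain ⟨y, hy'⟩ : ∃ y, y = F'.el y0 := ⟨_, rfl⟩
  rw [← hy'] at hy hyδ
  obtain ⟨k, hk⟩ : ∃ k : ℕ, π (⟨y, hy⟩ * γ * ⟨y, hy⟩⁻¹) = π (γ ^ k) := by
    -- the Sylow 7-subgroup of `Ψ` is normal
    haveI : Fintype (Sylow 7 Ψ) := Fintype.ofFinite _
    have hfac : (Nat.card Ψ).factorization 7 = 1 := by
      rw [h21]
      have h1 := (Nat.Prime.pow_dvd_iff_le_factorization (p := 7) (by norm_num) (by norm_num : (21 : ℕ) ≠ 0) (k := 1)).1 (by norm_num)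
      have h2 : ¬ 2 ≤ (21 : ℕ).factorization 7 := fun hh => by
        have := (Nat.Prime.pow_dvd_iff_le_factorization (p := 7) (by norm_num) (by norm_num : (21 : ℕ) ≠ 0) (k := 2)).2 hh
        norm_num at this
      omega
    let Q : Sylow 7 Ψ := Sylow.ofCard (Subgroup.zpowers ⟨ψ, ⟨γ, hγψ⟩⟩) (by
      rw [Nat.card_zpowers, hord, hfac]; norm_num)
    have h1 : Nat.card (Sylow 7 Ψ) = 1 := by
      have hmod := card_sylow_modEq_one 7 Ψ
      have hdvd := Q.card_dvd_index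
      have hidx : (Q : Subgroup Ψ).index = 3 := by
        have := Subgroup.card_mul_index (Q : Subgroup Ψ)
        rw [h21, Q.card_eq_multiplicity, hfac] at this
        omega
      rw [hidx] at hdvd
      rcases (Nat.dvd_prime Nat.prime_three).1 hdvd with h3 | h3
      · exact h3
      · rw [h3, Nat.ModEq] at hmod; omega
    have hsub : Subsingleton (Sylow 7 Ψ) := (Nat.card_eq_one_iff_unique.1 h1).1
    have hn := Sylow.normal_of_subsingleton Q
    obtain ⟨z, hz⟩ := hn.conj_mem (⟨ψ, ⟨γ, hγψ⟩⟩ : Ψ) (Subgroup.mem_zpowers _)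
      ⟨π ⟨y, hy⟩, ⟨_, rfl⟩⟩
    obtain ⟨k, hk⟩ : ∃ k : ℕ, (⟨ψ, ⟨γ, hγψ⟩⟩ : Ψ) ^ z = (⟨ψ, ⟨γ, hγψ⟩⟩ : Ψ) ^ k := by
      have := (isOfFinOrder_of_finite (⟨ψ, ⟨γ, hγψ⟩⟩ : Ψ)).mem_powers_iff_mem_zpowers.2 ⟨z, rfl⟩
      obtain ⟨k, hk⟩ := this
      exact ⟨k, hk.symm⟩
    refine ⟨k, ?_⟩
    have := congrArg Subtype.val (hz.symm.trans hk)
    simp only [Subgroup.coe_mul, InvMemClass.coe_inv, SubmonoidClass.coe_pow] at this
    rw [map_mul, map_mul, map_inv, map_pow, hγψ]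
    exact this
  obtain ⟨η, hη⟩ : ∃ η : Γ, η = ⟨y, hy⟩ * γ * ⟨y, hy⟩⁻¹ := ⟨_, rfl⟩
  rw [← hη] at hk
  have hκc : ∀ x ∈ F.E, ((γ ^ k)⁻¹ * η : Γ).1 * x = x * ((γ ^ k)⁻¹ * η : Γ).1 := by
    intro x hx
    by_cases hx1 : x = 1
    · simp [hx1]
    have e1 : π ((γ ^ k)⁻¹ * η) = 1 := by rw [map_mul, map_inv, hk, inv_mul_cancel]
    exact mul_inv_eq_iff_eq_mul.1 (congrArg Subtype.val (Equiv.ext_iff.1 e1 ⟨x, hx, hx1⟩))
  have hgp : ∀ j : ℕ, Commute ((γ ^ j : Γ) : G) p := fun j => by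
    rw [SubmonoidClass.coe_pow]
    exact (show Commute (γ : G) p from mul_inv_eq_iff_eq_mul.1 hpfix).pow_left j
  have hηp : Commute (η : G) p := by
    have hkp := hcomm _ ((γ ^ k)⁻¹ * η : Γ).2 hκc p hpc
    have e1 : (η : G) = ((γ ^ k : Γ) : G) * (((γ ^ k)⁻¹ * η : Γ) : G) := by
      rw [← Subgroup.coe_mul, mul_inv_cancel_left]
    rw [e1]
    exact (hgp k).mul_left hkp
  have hηd : Commute (η : G) (y * p * y⁻¹) := by
    rw [hη]
    show y * (γ : G) * y⁻¹ * (y * p * y⁻¹) = y * p * y⁻¹ * (y * (γ : G) * y⁻¹)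
    rw [show y * (γ : G) * y⁻¹ * (y * p * y⁻¹) = y * ((γ : G) * p) * y⁻¹ by group,
      mul_inv_eq_iff_eq_mul.1 hpfix]
    group
  rw [hyδ] at hηd
  have hηδ : (η : G) * δ * (η : G)⁻¹ = δ := by
    have := hηp.inv_right.mul_right hηd
    rw [inv_mul_cancel_left] at this
    exact mul_inv_eq_iff_eq_mul.2 this
  have hδ1 : δ = 1 := by
    have hm := hΓE _ (inv_mem hy) δ hδ
    refine conj_eq_one_iff.1 (hfreeE _ hm ?_)
    rw [hη] at hηδ
    change y * (γ : G) * y⁻¹ * δ * (y * (γ : G) * y⁻¹)⁻¹ = δ at hηδ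
    conv_rhs => rw [← hηδ]
    group
  rw [hδ1, mul_one] at hyδ
  -- `p` commutes with `y`, so its component in `E` is central in the weak closure
  obtain ⟨e', he', hep⟩ := (weak_conj h (h.isConj_E F hs hs1)).centralizer_E F' (g := p) (hF' ▸ hpc)
  obtain ⟨a, ha, rfl⟩ := he'
  have hya : F'.el y0 * F'.el a = F'.el a * F'.el y0 := by
    have h1 := Subgroup.mem_centralizer_iff.1 hep (F'.el y0) (F'.el_mem y0)
    have h2 : F'.el y0 * p = p * F'.el y0 := mul_inv_eq_iff_eq_mul.1 (hy' ▸ hyδ)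
    rw [mul_assoc, ← h2, ← mul_assoc, ← mul_assoc] at h1
    exact mul_right_cancel h1
  have haz := inE_fix_y0 a ha (mul_inv_eq_iff_eq_mul.2 (F'.el_injective (by rw [map_mul, map_mul, hya])))
  have hcent : F'.el a ∈ Subgroup.centralizer (wk s : Set G) := by
    rcases haz with rfl | rfl
    · rw [map_one]; exact one_mem _
    · rw [F'.el_z0]; exact Subgroup.mem_centralizer_iff.2 fun x hx => wk_comm hx
  have := mul_mem (inv_mem hcent) hep
  rwa [inv_mul_cancel_left] at this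

end CfsgLib.WeakJanko
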